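import Mathlib

/-!
Hua's identity for a pair of additive maps.
-/

set_option autoImplicit false

namespace Cfsg.Agent.ChevAut

variable {F : Type*} [Field F] [Finite F]

/-- A normalised pair of additive bijections exchanged by inversion is one field automorphism. -/
theorem exists_fieldAut {f g : F → F} (hf : Function.Bijective f)
    (fadd : ∀ a b, f (a + b) = f a + f b) (gadd : ∀ a b, g (a + b) = g a + g b) (f1 : f 1 = 1)
    (hrel : ∀ t : F, t ≠ 0 → g (-t⁻¹) = -(f t)⁻¹) :
    ∃ σ : F ≃+* F, ∀ t, f t = σ t ∧ g t = σ t := by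
  set fA : F →+ F := AddMonoidHom.mk' f fadd with hfA
  set gA : F →+ F := AddMonoidHom.mk' g gadd with hgA
  have hf0 : ∀ t, t ≠ 0 → f t ≠ 0 := fun t ht h => ht (hf.1 (h.trans fA.map_zero.symm))
  have ginv : ∀ t, t ≠ 0 → g t⁻¹ = (f t)⁻¹ := fun t ht => by
    have := hrel t ht
    rw [show g (-t⁻¹) = -g t⁻¹ from gA.map_neg _, neg_inj] at this
    exact this
  have fsub : ∀ a b, f (a - b) = f a - f b := fA.map_sub
  have gadd' : ∀ a b, g (a + b) = g a + g b := gadd
  -- Hua's identity
  have hua : ∀ a b : F, a ≠ 0 → b ≠ 0 → a * b ≠ 1 →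
      (f (a - a * a * b))⁻¹ = (f a)⁻¹ + (f b⁻¹ - f a)⁻¹ := by
    intro a b ha hb hab
    have h1 : b⁻¹ - a ≠ 0 := by
      rw [sub_ne_zero]
      intro e
      exact hab (by rw [← e, inv_mul_cancel₀ hb])
    have h2 : (1 : F) - a * b ≠ 0 := sub_ne_zero.2 (Ne.symm hab)
    have h3 : a - a * a * b ≠ 0 := by
      rw [show a - a * a * b = a * (1 - a * b) by ring]
      exact mul_ne_zero ha h2
    have e : (a - a * a * b)⁻¹ = a⁻¹ + (b⁻¹ - a)⁻¹ := by
      have h4 : b⁻¹ - a = (1 - a * b) / b := by field_simp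
      rw [h4, show a - a * a * b = a * (1 - a * b) by ring, inv_div, mul_inv,
        inv_eq_one_div (1 - a * b), inv_eq_one_div a, one_div_mul_one_div, div_add_div _ _ ha h2,
        show (1 : F) * (1 - a * b) + a * b = 1 by ring]
    rw [← ginv _ h3, e, gadd', ginv _ ha, ginv _ h1, fsub]
  have key : ∀ a b : F, a ≠ 0 → b ≠ 0 → a * b ≠ 1 →
      f (a - a * a * b) = f a - f a * f a * g b := by
    intro a b ha hb hab
    have hfb : f b⁻¹ ≠ 0 := hf0 _ (inv_ne_zero hb)
    have hfa : f a ≠ 0 := hf0 _ ha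
    have hne : f b⁻¹ - f a ≠ 0 := sub_ne_zero.2 fun e => hab (by
      rw [← hf.1 e, inv_mul_cancel₀ hb])
    have hgb : g b = (f b⁻¹)⁻¹ := by rw [← ginv _ (inv_ne_zero hb), inv_inv]
    have h := inv_eq_iff_eq_inv.1 (hua a b ha hb hab)
    rw [h, hgb]
    have h5 : (f a)⁻¹ + (f b⁻¹ - f a)⁻¹ = f b⁻¹ / (f a * (f b⁻¹ - f a)) := by
      rw [inv_eq_one_div, inv_eq_one_div (f b⁻¹ - f a), div_add_div _ _ hfa hne]
      congr 1
      ring
    rw [h5, inv_div]
    generalize f b⁻¹ = u at *
    field_simp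
  have hgf : ∀ b, g b = f b := by
    intro b
    rcases eq_or_ne b 0 with rfl | hb
    · exact gA.map_zero.trans fA.map_zero.symm
    rcases eq_or_ne b 1 with rfl | hb1
    · have := ginv 1 one_ne_zero
      rw [inv_one, f1, inv_one] at this
      exact this.trans f1.symm
    have := key 1 b one_ne_zero hb (by rwa [one_mul])
    rw [one_mul, one_mul, fsub, f1, one_mul, one_mul] at this
    exact (sub_right_inj.1 this).symm
  have hsq : ∀ a b, f (a * a * b) = f a * f a * f b := by
    intro a b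
    rcases eq_or_ne a 0 with rfl | ha
    · simp [show f 0 = 0 from fA.map_zero]
    rcases eq_or_ne b 0 with rfl | hb
    · simp [show f 0 = 0 from fA.map_zero]
    by_cases hab : a * b = 1
    · obtain rfl : b = a⁻¹ := eq_inv_of_mul_eq_one_right hab
      rw [show a * a * a⁻¹ = a by field_simp, ← hgf a⁻¹, ginv a ha]
      field_simp [hf0 a ha]
    · have := key a b ha hb hab
      rwa [fsub, hgf, sub_right_inj] at this
  have hsq1 : ∀ a, f (a * a) = f a * f a := fun a => by
    have := hsq a 1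
    rwa [mul_one, f1, mul_one] at this
  have hmul : ∀ c b, f (c * b) = f c * f b := by
    intro c b
    by_cases h2 : (2 : F) = 0
    · have : CharP F 2 := CharTwo.of_one_ne_zero_of_two_eq_zero one_ne_zero h2
      obtain ⟨a, rfl⟩ : ∃ a : F, a * a = c := by
        obtain ⟨a, ha⟩ := (Finite.injective_iff_surjective.1
          (frobenius_inj F 2)) c
        exact ⟨a, by rw [← ha, frobenius_def, sq]⟩
      rw [hsq, hsq1]
    · have hc : c = (c + 1) / 2 * ((c + 1) / 2) - (c - 1) / 2 * ((c - 1) / 2) := by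
        field_simp; ring
      rw [hc, sub_mul, fsub, fsub, hsq, hsq, hsq1, hsq1, sub_mul]
  let fR : F →+* F :=
    { toFun := f, map_one' := f1, map_mul' := hmul, map_zero' := fA.map_zero, map_add' := fadd }
  exact ⟨RingEquiv.ofBijective fR hf, fun t => ⟨rfl, hgf t⟩⟩

end Cfsg.Agent.ChevAut
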