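import Cfsg.Agent.ChevAut.Shape

/-!
The permutation of the nodes is a symmetry of the diagram and the field automorphisms of the nodes
come from a single one.
-/

set_option autoImplicit false
set_option maxHeartbeats 1000000

namespace Cfsg.Agent.ChevAut

open Cfsg.Lie Cfsg.Agent.Chev
open scoped MatrixGroups

universe u

/-- The conclusion wanted about the nodes. -/
def NodesOK (D : ChevalleyDatum) {F : Type u} [Field F] (π : Equiv.Perm (Fin D.rank))
    (σ : Fin D.rank → F ≃+* F) : Prop :=
  D.IsDiagramSymmetry π ∧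
    ∃ ρ : F ≃+* F, ∀ (i : Fin D.rank) (t : F), σ i t = ρ t ^ D.graphExp (ringChar F) i (π i)

variable {D : ChevalleyDatum} {F : Type u} [Field F]
  {θ : ↥(D.group F) ≃* ↥(D.group F)} {π : Equiv.Perm (Fin D.rank)} {c : Fin D.rank → Fˣ}
  {σ : Fin D.rank → F ≃+* F} (h : Shape θ π c σ)

include h

theorem Shape.pow_eq {i j : Fin D.rank} {m : ℕ} (hm : m ≠ 0)
    (h1 : D.cartan i (D.simple j) = -1)
    (h2 : D.cartan (π i) (D.simple (π j)) = -(m : ℤ)) (t : F) : σ j t = σ i t ^ m := by
  rcases eq_or_ne t 0 with rfl | ht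
  · simp [hm]
  have := h.torus i j (Units.mk0 t ht)
  rw [h1, h2, Units.val_mk0, zpow_neg_one, map_inv₀, zpow_neg, zpow_natCast, inv_inj] at this
  exact this

theorem Shape.eq_of_single {i j : Fin D.rank} (h1 : D.cartan i (D.simple j) = -1)
    (h2 : D.cartan (π i) (D.simple (π j)) = -1) (t : F) : σ j t = σ i t := by
  simpa using h.pow_eq one_ne_zero h1 (by simpa using h2) t

theorem Shape.nodesOK_lac (z : Fin D.rank) (par : Fin D.rank → Fin D.rank) (k : ℕ)
    (hlac : ∀ i j : Fin D.rank, i ≠ j → D.cartan i (D.simple j) = 0 ∨ D.cartan i (D.simple j) = -1)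
    (hlong : ∀ i : Fin D.rank, D.isLong (D.simple i) = false)
    (hpar : ∀ i : Fin D.rank, i = z ∧ par i = z ∨
      par i ≠ i ∧ D.cartan (par i) (D.simple i) = -1)
    (hk : ∀ i, par^[k] i = z) : NodesOK D π σ := by
  have hA : ∀ i j : Fin D.rank, i ≠ j →
      D.cartan (π i) (D.simple (π j)) = D.cartan i (D.simple j) := fun i j hij => by
    have := h.orth i j hij
    rcases hlac i j hij with a | a <;>
      rcases hlac (π i) (π j) (fun e => hij (π.injective e)) with b | b <;>
      simp [a, b] at this ⊢
  refine ⟨fun i j hij => ?_, σ z, fun i t => ?_⟩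
  · rw [ChevalleyDatum.bonds, ChevalleyDatum.bonds, hA i j hij, hA j i (Ne.symm hij)]
  · rw [ChevalleyDatum.graphExp, hlong (π i), Bool.false_and, if_neg (by simp), pow_one]
    have step : ∀ (n : ℕ) (i : Fin D.rank), σ i t = σ (par^[n] i) t := by
      intro n
      induction n with
      | zero => simp
      | succ n ih =>
        intro i
        rw [Function.iterate_succ_apply, ← ih (par i)]
        rcases hpar i with ⟨e1, e2⟩ | ⟨e1, e2⟩
        · rw [e2, e1]
        · exact h.eq_of_single e2 (by rw [hA _ _ e1, e2]) t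
    rw [step k i, hk]

omit h in
/-- An additive power map forces the exponent to be the characteristic. -/
theorem pow_eq_ringChar [Finite F] {m : ℕ} (hm : m = 2 ∨ m = 3) (ρ ψ : F ≃+* F)
    (e : ∀ t, ψ t = ρ t ^ m) : ∀ x : F, x ^ m = x ^ ringChar F := by
  have hadd : ∀ a b : F, (a + b) ^ m = a ^ m + b ^ m := fun a b => by
    obtain ⟨a, rfl⟩ := ρ.surjective a
    obtain ⟨b, rfl⟩ := ρ.surjective b
    rw [← map_add, ← e, ← e, ← e, map_add]
  have hprime : Nat.Prime (ringChar F) :=
    CharP.char_is_prime F (ringChar F)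
  have h11 := hadd 1 1
  rcases hm with rfl | rfl
  · have h2 : ((2 : ℕ) : F) = 0 := by
      rw [one_pow, show (1 : F) + 1 = 2 by norm_num] at h11
      push_cast
      linear_combination h11
    rw [(Nat.prime_dvd_prime_iff_eq hprime Nat.prime_two).1 ((ringChar.spec F 2).1 h2)]
    exact fun _ => rfl
  · have h6 : ((2 * 3 : ℕ) : F) = 0 := by
      push_cast
      linear_combination h11
    rcases (Nat.Prime.dvd_mul hprime).1 ((ringChar.spec F _).1 h6) with d | d
    · have hc := (Nat.prime_dvd_prime_iff_eq hprime Nat.prime_two).1 d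
      have h2 : ((2 : ℕ) : F) = 0 := (ringChar.spec F 2).2 (by rw [hc])
      push_cast at h2
      intro x
      have h3 : x * (x + 1) = 0 := by
        linear_combination hadd x 1 - (x ^ 2 + x) * h2
      rw [hc]
      linear_combination x * h3 - x ^ 2 * h2
    · rw [(Nat.prime_dvd_prime_iff_eq hprime Nat.prime_three).1 d]
      exact fun _ => rfl

theorem Shape.nodesOK_two [Finite F] (a b : Fin D.rank) (hab : a ≠ b)
    (hall : ∀ i, i = a ∨ i = b) {m : ℕ} (hm : m = 2 ∨ m = 3)
    (hA1 : D.cartan a (D.simple b) = -1) (hA2 : D.cartan b (D.simple a) = -(m : ℤ))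
    (hla : D.isLong (D.simple a) = true) (hlb : D.isLong (D.simple b) = false) :
    NodesOK D π σ := by
  refine ⟨fun i j hij => ?_, σ a, ?_⟩
  · have key : ∀ i j : Fin D.rank, i ≠ j → D.bonds i j = D.bonds a b := fun i j hij => by
      rcases hall i with rfl | rfl <;> rcases hall j with rfl | rfl <;>
        first | exact absurd rfl hij | rfl | exact mul_comm _ _
    rw [key i j hij, key _ _ fun e => hij (π.injective e)]
  · rcases hall (π a) with e | e
    · have e' : π b = b := (hall (π b)).resolve_left fun e' => hab (π.injective (e.trans e'.symm))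
      have hb : ∀ t, σ b t = σ a t := h.eq_of_single hA1 (by rw [e, e', hA1])
      intro i t
      rcases hall i with rfl | rfl
      · rw [e, ChevalleyDatum.graphExp, hla]; simp
      · rw [e', ChevalleyDatum.graphExp, hlb, hb]; simp
    · have e' : π b = a := (hall (π b)).resolve_right fun e' => hab (π.injective (e.trans e'.symm))
      have hm0 : m ≠ 0 := by omega
      have hb : ∀ t, σ b t = σ a t ^ m := h.pow_eq hm0 hA1 (by rw [e, e', hA2])
      have hp := pow_eq_ringChar hm (σ a) (σ b) hb
      intro i t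
      rcases hall i with rfl | rfl
      · rw [e, ChevalleyDatum.graphExp, hlb]; simp
      · rw [e', ChevalleyDatum.graphExp, hla, hlb, hb, hp]; simp

end Cfsg.Agent.ChevAut
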