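import Cfsg.Agent.ChevAut.Auts
import Cfsg.Agent.ChevAut.Diagram
import Cfsg.Agent.Chev.All
import Cfsg.Agent.S2326

/-!
Every automorphism of a Chevalley group is inner, diagonal, graph and field.
-/

set_option autoImplicit false
set_option maxHeartbeats 4000000
set_option maxRecDepth 100000

namespace Cfsg.Agent.ChevAut

open Cfsg.Lie Cfsg.Agent.Chev
open scoped MatrixGroups

universe u

theorem d4_lac : (∀ i j : Fin chevD4.rank, i ≠ j →
      chevD4.cartan i (chevD4.simple j) = 0 ∨ chevD4.cartan i (chevD4.simple j) = -1) ∧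
    ∀ i : Fin chevD4.rank, chevD4.isLong (chevD4.simple i) = false := by decide +kernel

theorem e6_lac : (∀ i j : Fin chevE6.rank, i ≠ j →
      chevE6.cartan i (chevE6.simple j) = 0 ∨ chevE6.cartan i (chevE6.simple j) = -1) ∧
    ∀ i : Fin chevE6.rank, chevE6.isLong (chevE6.simple i) = false := by decide +kernel

theorem e7_lac : (∀ i j : Fin chevE7.rank, i ≠ j →
      chevE7.cartan i (chevE7.simple j) = 0 ∨ chevE7.cartan i (chevE7.simple j) = -1) ∧
    ∀ i : Fin chevE7.rank, chevE7.isLong (chevE7.simple i) = false := by decide +kernel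

theorem e8_lac : (∀ i j : Fin chevE8.rank, i ≠ j →
      chevE8.cartan i (chevE8.simple j) = 0 ∨ chevE8.cartan i (chevE8.simple j) = -1) ∧
    ∀ i : Fin chevE8.rank, chevE8.isLong (chevE8.simple i) = false := by decide +kernel

/-- A parent of each node, towards node `0`. -/
def parList (L : List ℕ) {n : ℕ} (hn : 0 < n) (i : Fin n) : Fin n :=
  ⟨(L.getD i 0) % n, Nat.mod_lt _ hn⟩

theorem d4_tree : ∀ i : Fin chevD4.rank,
    (i = ⟨0, by decide⟩ ∧ parList [0, 0, 1, 1] (n := chevD4.rank) (by decide) i = ⟨0, by decide⟩ ∨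
      parList [0, 0, 1, 1] (n := chevD4.rank) (by decide) i ≠ i ∧
        chevD4.cartan (parList [0, 0, 1, 1] (n := chevD4.rank) (by decide) i)
          (chevD4.simple i) = -1) ∧
    (parList [0, 0, 1, 1] (n := chevD4.rank) (by decide))^[4] i = ⟨0, by decide⟩ := by
  decide +kernel

theorem e6_tree : ∀ i : Fin chevE6.rank,
    (i = ⟨0, by decide⟩ ∧
        parList [0, 3, 0, 2, 3, 4] (n := chevE6.rank) (by decide) i = ⟨0, by decide⟩ ∨
      parList [0, 3, 0, 2, 3, 4] (n := chevE6.rank) (by decide) i ≠ i ∧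
        chevE6.cartan (parList [0, 3, 0, 2, 3, 4] (n := chevE6.rank) (by decide) i)
          (chevE6.simple i) = -1) ∧
    (parList [0, 3, 0, 2, 3, 4] (n := chevE6.rank) (by decide))^[6] i = ⟨0, by decide⟩ := by
  decide +kernel

theorem e7_tree : ∀ i : Fin chevE7.rank,
    (i = ⟨0, by decide⟩ ∧
        parList [0, 3, 0, 2, 3, 4, 5] (n := chevE7.rank) (by decide) i = ⟨0, by decide⟩ ∨
      parList [0, 3, 0, 2, 3, 4, 5] (n := chevE7.rank) (by decide) i ≠ i ∧
        chevE7.cartan (parList [0, 3, 0, 2, 3, 4, 5] (n := chevE7.rank) (by decide) i)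
          (chevE7.simple i) = -1) ∧
    (parList [0, 3, 0, 2, 3, 4, 5] (n := chevE7.rank) (by decide))^[7] i = ⟨0, by decide⟩ := by
  decide +kernel

theorem e8_tree : ∀ i : Fin chevE8.rank,
    (i = ⟨0, by decide⟩ ∧
        parList [0, 3, 0, 2, 3, 4, 5, 6] (n := chevE8.rank) (by decide) i = ⟨0, by decide⟩ ∨
      parList [0, 3, 0, 2, 3, 4, 5, 6] (n := chevE8.rank) (by decide) i ≠ i ∧
        chevE8.cartan (parList [0, 3, 0, 2, 3, 4, 5, 6] (n := chevE8.rank) (by decide) i)
          (chevE8.simple i) = -1) ∧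
    (parList [0, 3, 0, 2, 3, 4, 5, 6] (n := chevE8.rank) (by decide))^[8] i = ⟨0, by decide⟩ := by
  decide +kernel

theorem g2_long : chevG2.cartan 1 (chevG2.simple 0) = -1 ∧ chevG2.cartan 0 (chevG2.simple 1) = -3 ∧
    chevG2.isLong (chevG2.simple 1) = true ∧ chevG2.isLong (chevG2.simple 0) = false := by
  decide +kernel

theorem b2_long : chevB2.cartan 1 (chevB2.simple 0) = -1 ∧ chevB2.cartan 0 (chevB2.simple 1) = -2 ∧
    chevB2.isLong (chevB2.simple 1) = true ∧ chevB2.isLong (chevB2.simple 0) = false := by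
  decide +kernel

theorem f4_long : (chevF4.cartan 1 (chevF4.simple 0) = -1 ∧ chevF4.cartan 2 (chevF4.simple 1) = -1 ∧
      chevF4.cartan 3 (chevF4.simple 2) = -1 ∧ chevF4.cartan 0 (chevF4.simple 1) = -1 ∧
      chevF4.cartan 2 (chevF4.simple 3) = -1 ∧ chevF4.cartan 1 (chevF4.simple 2) = -2) ∧
    chevF4.isLong (chevF4.simple 0) = false ∧ chevF4.isLong (chevF4.simple 1) = false ∧
      chevF4.isLong (chevF4.simple 2) = true ∧ chevF4.isLong (chevF4.simple 3) = true := by
  decide +kernel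

/-- The permutations of four nodes preserving orthogonality in type `F₄`. -/
theorem f4_perm : ∀ a b c d : Fin 4, a ≠ b → a ≠ c → a ≠ d → b ≠ c → b ≠ d → c ≠ d →
    (chevF4.cartan a (chevF4.simple c) = 0) → (chevF4.cartan a (chevF4.simple d) = 0) →
    (chevF4.cartan b (chevF4.simple d) = 0) →
    [a, b, c, d] = [0, 1, 2, 3] ∨ [a, b, c, d] = [3, 2, 1, 0] := by decide +kernel

theorem f4_orth : chevF4.cartan 0 (chevF4.simple 2) = 0 ∧ chevF4.cartan 0 (chevF4.simple 3) = 0 ∧
    chevF4.cartan 1 (chevF4.simple 3) = 0 := by decide +kernel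

theorem f4_bonds : ∀ i j : Fin 4, i ≠ j →
    chevF4.bonds (Fin.rev i : Fin 4) (Fin.rev j : Fin 4) = chevF4.bonds i j := by decide +kernel

theorem nodesOK_f4 {F : Type u} [Field F] [Finite F]
    {θ : ↥(chevF4.group F) ≃* ↥(chevF4.group F)} {π : Equiv.Perm (Fin chevF4.rank)}
    {c : Fin chevF4.rank → Fˣ} {σ : Fin chevF4.rank → F ≃+* F} (h : Shape θ π c σ) :
    NodesOK chevF4 π σ := by
  obtain ⟨o1, o2, o3⟩ := f4_orth
  let n : Fin 4 → Fin chevF4.rank := fun k => k
  have hne : ∀ {a b : Fin 4}, a ≠ b → π (n a) ≠ π (n b) := fun hab e => hab (π.injective e)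
  have hcase := f4_perm (π (n 0)) (π (n 1)) (π (n 2)) (π (n 3)) (hne (by decide)) (hne (by decide))
    (hne (by decide)) (hne (by decide)) (hne (by decide)) (hne (by decide))
    ((h.orth (n 0) (n 2) fun e => absurd (congrArg Fin.val e : (0 : ℕ) = 2) (by decide)).2 o1)
    ((h.orth (n 0) (n 3) fun e => absurd (congrArg Fin.val e : (0 : ℕ) = 3) (by decide)).2 o2)
    ((h.orth (n 1) (n 3) fun e => absurd (congrArg Fin.val e : (1 : ℕ) = 3) (by decide)).2 o3)
  obtain ⟨⟨c10, c21, c32, c01, c23, c12⟩, l0, l1, l2, l3⟩ := f4_long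
  have v : ∀ k : Fin 4, ((n k : Fin chevF4.rank) : ℕ) = (k : ℕ) := fun _ => rfl
  rcases hcase with e | e
  · have p0 : π (n 0) = n 0 := congrArg (fun l : List (Fin 4) => l.getD 0 0) e
    have p1 : π (n 1) = n 1 := congrArg (fun l : List (Fin 4) => l.getD 1 0) e
    have p2 : π (n 2) = n 2 := congrArg (fun l : List (Fin 4) => l.getD 2 0) e
    have p3 : π (n 3) = n 3 := congrArg (fun l : List (Fin 4) => l.getD 3 0) e
    have hπ : ∀ k : Fin chevF4.rank, π k = k := by
      intro k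
      fin_cases k
      · exact p0
      · exact p1
      · exact p2
      · exact p3
    refine ⟨fun i j _ => by rw [hπ, hπ], σ (n 0), fun i t => ?_⟩
    rw [hπ]
    have e01 : σ (n 0) t = σ (n 1) t := h.eq_of_single (i := n 1) (j := n 0) c10 (by rw [hπ, hπ]; exact c10) t
    have e12 : σ (n 1) t = σ (n 2) t := h.eq_of_single (i := n 2) (j := n 1) c21 (by rw [hπ, hπ]; exact c21) t
    have e23 : σ (n 2) t = σ (n 3) t := h.eq_of_single (i := n 3) (j := n 2) c32 (by rw [hπ, hπ]; exact c32) t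
    have hex : chevF4.graphExp (ringChar F) i i = 1 := by simp [ChevalleyDatum.graphExp]
    rw [hex, pow_one]
    fin_cases i
    · rfl
    · exact e01.symm
    · exact (e01.trans e12).symm
    · exact ((e01.trans e12).trans e23).symm
  · have p0 : π (n 0) = n 3 := congrArg (fun l : List (Fin 4) => l.getD 0 0) e
    have p1 : π (n 1) = n 2 := congrArg (fun l : List (Fin 4) => l.getD 1 0) e
    have p2 : π (n 2) = n 1 := congrArg (fun l : List (Fin 4) => l.getD 2 0) e
    have p3 : π (n 3) = n 0 := congrArg (fun l : List (Fin 4) => l.getD 3 0) e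
    have hπ : ∀ k : Fin chevF4.rank, π k = (Fin.rev (n := 4) k : Fin 4) := by
      intro k
      fin_cases k
      · exact p0
      · exact p1
      · exact p2
      · exact p3
    refine ⟨fun i j hij => by rw [hπ, hπ]; exact f4_bonds i j hij, σ (n 2), ?_⟩
    have e21 : ∀ t, σ (n 1) t = σ (n 2) t ^ 2 := h.pow_eq (i := n 2) (j := n 1) two_ne_zero c21
      (by rw [hπ, hπ]; exact c12)
    have e32 : ∀ t, σ (n 2) t = σ (n 3) t := h.eq_of_single (i := n 3) (j := n 2) c32
      (by rw [hπ, hπ]; exact c01)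
    have e10 : ∀ t, σ (n 0) t = σ (n 1) t := h.eq_of_single (i := n 1) (j := n 0) c10
      (by rw [hπ, hπ]; exact c23)
    have hp := pow_eq_ringChar (Or.inl rfl) (σ (n 2)) (σ (n 1)) e21
    intro i t
    rw [hπ]
    fin_cases i
    · show σ (n 0) t = σ (n 2) t ^ chevF4.graphExp (ringChar F) 0 3
      rw [ChevalleyDatum.graphExp, l0, l3, e10, e21, hp]; rfl
    · show σ (n 1) t = σ (n 2) t ^ chevF4.graphExp (ringChar F) 1 2
      rw [ChevalleyDatum.graphExp, l1, l2, e21, hp]; rfl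
    · show σ (n 2) t = σ (n 2) t ^ chevF4.graphExp (ringChar F) 2 1
      rw [ChevalleyDatum.graphExp, l1]; simp
    · show σ (n 3) t = σ (n 2) t ^ chevF4.graphExp (ringChar F) 3 0
      rw [ChevalleyDatum.graphExp, l0, e32]; simp

theorem nodesOK_of_mem {D : ChevalleyDatum}
    (hD : D ∈ [chevG2, chevB2, chevD4, chevF4, chevE6, chevE7, chevE8]) {F : Type u} [Field F]
    [Finite F] {θ : ↥(D.group F) ≃* ↥(D.group F)} {π : Equiv.Perm (Fin D.rank)}
    {c : Fin D.rank → Fˣ} {σ : Fin D.rank → F ≃+* F} (h : Shape θ π c σ) : NodesOK D π σ := by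
  simp only [List.mem_cons, List.not_mem_nil, or_false] at hD
  rcases hD with rfl | rfl | rfl | rfl | rfl | rfl | rfl
  · exact h.nodesOK_two ⟨1, by decide⟩ ⟨0, by decide⟩ (by decide) (by decide) (Or.inr rfl)
      g2_long.1 g2_long.2.1 g2_long.2.2.1 g2_long.2.2.2
  · exact h.nodesOK_two ⟨1, by decide⟩ ⟨0, by decide⟩ (by decide) (by decide) (Or.inl rfl)
      b2_long.1 b2_long.2.1 b2_long.2.2.1 b2_long.2.2.2
  · exact h.nodesOK_lac _ _ 4 d4_lac.1 d4_lac.2 (fun i => (d4_tree i).1) fun i => (d4_tree i).2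
  · exact nodesOK_f4 h
  · exact h.nodesOK_lac _ _ 6 e6_lac.1 e6_lac.2 (fun i => (e6_tree i).1) fun i => (e6_tree i).2
  · exact h.nodesOK_lac _ _ 7 e7_lac.1 e7_lac.2 (fun i => (e7_tree i).1) fun i => (e7_tree i).2
  · exact h.nodesOK_lac _ _ 8 e8_lac.1 e8_lac.2 (fun i => (e8_tree i).1) fun i => (e8_tree i).2

/-- A normalised automorphism is diagonal, graph and field. -/
theorem exists_dgf {D : ChevalleyDatum}
    (hD : D ∈ [chevG2, chevB2, chevD4, chevF4, chevE6, chevE7, chevE8]) {F : Type u} [Field F]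
    [Finite F] (θ : ↥(D.group F) ≃* ↥(D.group F)) (hθ : Normalised θ) :
    ∃ d g f : ↥(D.group F) ≃* ↥(D.group F),
      D.IsDiagonalAut d ∧ D.IsGraphAut g ∧ D.IsFieldAut f ∧ ∀ y, θ y = d (g (f y)) := by
  have : Fintype F := Fintype.ofFinite F
  have hF := facts_of_mem.{u} hD
  have hA := autFacts_of_mem.{u} hD
  obtain ⟨π, c, σ, hS⟩ := exists_shape hF hA hθ
  obtain ⟨hπ, ρ, hρ⟩ := nodesOK_of_mem hD hS
  obtain ⟨χ, hχ, hχs⟩ := hA.char F fun k => c (π.symm k)
  set d := diagAut hF hA hχ with hd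
  set f := fldAut hF ρ with hf
  refine ⟨d, (f.symm.trans θ).trans d.symm, f, isDiagonalAut_diagAut hF hA hχ, ⟨π, hπ, ?_⟩,
    isFieldAut_fldAut hF ρ, fun y => by simp⟩
  have hdsymm : ∀ (r : ℕ), r < D.nroots → ∀ (t : F) (g : ↥(D.group F)),
      ((g : GL D.Idx F) : Matrix D.Idx D.Idx F) = D.x F r t →
      ((d.symm g : GL D.Idx F) : Matrix D.Idx D.Idx F) = D.x F r (((χ r)⁻¹ : Fˣ) * t) := by
    intro r hr t g hg
    rw [show d.symm g = rX hF r (((χ r)⁻¹ : Fˣ) * t) by
      rw [MulEquiv.symm_apply_eq]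
      apply Subtype.ext
      apply Units.ext
      rw [hg, hd, diagAut_x hF hA hχ hr (g := rX hF r (((χ r)⁻¹ : Fˣ) * t)) rfl,
        Units.mul_inv_cancel_left]]
    rfl
  have hfsymm : ∀ (r : ℕ) (t : F) (g : ↥(D.group F)),
      ((g : GL D.Idx F) : Matrix D.Idx D.Idx F) = D.x F r t →
      ((f.symm g : GL D.Idx F) : Matrix D.Idx D.Idx F) = D.x F r (ρ.symm t) := by
    intro r t g hg
    rw [show f.symm g = rX hF r (ρ.symm t) by
      rw [MulEquiv.symm_apply_eq]
      apply Subtype.ext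
      apply Units.ext
      rw [hg, hf, fldAut_x hF ρ (g := rX hF r (ρ.symm t)) rfl, ρ.apply_symm_apply]]
    rfl
  intro g i t
  have hlt := hF.simple_lt (π i) (π i).2
  have hχi : χ (D.simple (π i)) = c i := by rw [hχs, Equiv.symm_apply_apply]
  refine ⟨fun hg => ?_, fun hg => ?_⟩
  · refine (hdsymm _ hlt _ _ (hS.pos i _ _ (hfsymm _ _ _ hg))).trans ?_
    rw [hχi, Units.inv_mul_cancel_left, hρ, ρ.apply_symm_apply]
  · refine (hdsymm _ (neg_lt hF hlt) _ _ (hS.neg i _ _ (hfsymm _ _ _ hg))).trans ?_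
    rw [hχ.1 _ hlt, hχi, inv_inv, Units.mul_inv_cancel_left, hρ, ρ.apply_symm_apply]

end Cfsg.Agent.ChevAut
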