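import Cfsg.Agent.ChevAut.Data
import Cfsg.Agent.Chev.Functorial

/-!
Diagonal and field automorphisms of a Chevalley group.
-/

set_option autoImplicit false
set_option maxHeartbeats 1000000

namespace Cfsg.Agent.ChevAut

open Cfsg.Lie Cfsg.Agent.Chev
open scoped MatrixGroups

universe u

variable {D : ChevalleyDatum} {F : Type u} [Field F]

theorem IsRootCharacter.inv {χ : ℕ → Fˣ} (h : D.IsRootCharacter χ) :
    D.IsRootCharacter (fun r => (χ r)⁻¹) :=
  ⟨fun r hr => by simp [h.1 r hr], fun r s k hr hs e => by simp [h.2 r s k hr hs e, mul_comm]⟩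

theorem charDiag_mul (χ ψ : ℕ → Fˣ) :
    D.charDiag F χ * D.charDiag F ψ = D.charDiag F (fun r => χ r * ψ r) := by
  rw [ChevalleyDatum.charDiag, ChevalleyDatum.charDiag, ChevalleyDatum.charDiag,
    Matrix.diagonal_mul_diagonal]
  congr 1
  funext a
  rcases a with i | r <;> simp

theorem charDiag_one : D.charDiag F (fun _ => 1) = 1 := by
  rw [ChevalleyDatum.charDiag, ← Matrix.diagonal_one]
  congr 1
  funext a
  rcases a with i | r <;> simp

/-- The diagonal matrix of a family of units, in `GL`. -/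
def charU (χ : ℕ → Fˣ) : GL D.Idx F :=
  ⟨D.charDiag F χ, D.charDiag F (fun r => (χ r)⁻¹),
    by rw [charDiag_mul, ← charDiag_one]; simp,
    by rw [charDiag_mul, ← charDiag_one]; simp⟩

theorem charU_inv (χ : ℕ → Fˣ) : (charU (D := D) χ)⁻¹ = charU fun r => (χ r)⁻¹ := Units.ext rfl

theorem charU_mul (χ ψ : ℕ → Fˣ) :
    charU (D := D) χ * charU ψ = charU fun r => χ r * ψ r := Units.ext (charDiag_mul χ ψ)

section

variable (hF : Facts.{u} D) (hA : AutFacts.{u} D)
include hF hA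

theorem charU_conj {χ : ℕ → Fˣ} (hχ : D.IsRootCharacter χ) {r : ℕ} (hr : r < D.nroots) (t : F) :
    charU χ * xG hF r t * (charU χ)⁻¹ = xG hF r ((χ r : F) * t) :=
  Units.ext (hA.conj F χ hχ r hr t)

theorem charU_map {χ : ℕ → Fˣ} (hχ : D.IsRootCharacter χ) :
    (D.group F).map (MulAut.conj (charU χ)).toMonoidHom = D.group F := by
  have key : ∀ {ψ : ℕ → Fˣ}, D.IsRootCharacter ψ → ∀ g ∈ D.group F,
      charU ψ * g * (charU ψ)⁻¹ ∈ D.group F := by
    intro ψ hψ g hg
    refine ((Subgroup.closure_le _).2 ?_ :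
      D.group F ≤ (D.group F).comap (MulAut.conj (charU ψ)).toMonoidHom) hg
    rintro y ⟨r, t, hy⟩
    obtain rfl : y = xG hF r t :=
      Units.ext (hy.trans (by rw [xG_val, ChevalleyDatum.x, dif_pos r.2]))
    show charU ψ * xG hF r t * (charU ψ)⁻¹ ∈ D.group F
    rw [charU_conj hF hA hψ r.2]
    exact xG_mem_group hF _ _
  refine le_antisymm ?_ fun g hg => ⟨(charU χ)⁻¹ * g * charU χ, ?_, ?_⟩
  · rintro _ ⟨g, hg, rfl⟩
    exact key hχ g hg
  · have := key (IsRootCharacter.inv hχ) g hg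
    rwa [← charU_inv, inv_inv] at this
  · show charU χ * ((charU χ)⁻¹ * g * charU χ) * (charU χ)⁻¹ = g
    group

/-- The diagonal automorphism of a character. -/
noncomputable def diagAut {χ : ℕ → Fˣ} (hχ : D.IsRootCharacter χ) :
    ↥(D.group F) ≃* ↥(D.group F) :=
  ((MulAut.conj (charU χ)).subgroupMap (D.group F)).trans
    (MulEquiv.subgroupCongr (charU_map hF hA hχ))

theorem diagAut_val {χ : ℕ → Fˣ} (hχ : D.IsRootCharacter χ) (g : ↥(D.group F)) :
    (diagAut hF hA hχ g : GL D.Idx F) = charU χ * (g : GL D.Idx F) * (charU χ)⁻¹ := rfl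

theorem isDiagonalAut_diagAut {χ : ℕ → Fˣ} (hχ : D.IsRootCharacter χ) :
    D.IsDiagonalAut (diagAut hF hA hχ) :=
  ⟨χ, hχ, fun _ => rfl⟩

theorem diagAut_x {χ : ℕ → Fˣ} (hχ : D.IsRootCharacter χ) {r : ℕ} (hr : r < D.nroots) {t : F}
    {g : ↥(D.group F)} (hg : ((g : GL D.Idx F) : Matrix D.Idx D.Idx F) = D.x F r t) :
    ((diagAut hF hA hχ g : GL D.Idx F) : Matrix D.Idx D.Idx F) = D.x F r ((χ r : F) * t) := by
  rw [diagAut_val, show (g : GL D.Idx F) = xG hF r t from Units.ext hg, charU_conj hF hA hχ hr]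
  rfl

end

section

variable (hF : Facts.{u} D)
include hF

/-- The field automorphism of an automorphism of the field. -/
noncomputable def fldAut (ρ : F ≃+* F) : ↥(D.group F) ≃* ↥(D.group F) :=
  MulEquiv.ofBijective (groupMap hF hF ρ.toRingHom) ⟨groupMap_injective hF hF _, fun g => by
    refine ⟨groupMap hF hF ρ.symm.toRingHom g, Subtype.ext (Units.ext ?_)⟩
    ext a b
    show ρ (ρ.symm (((g : GL D.Idx F) : Matrix D.Idx D.Idx F) a b)) = _
    exact ρ.apply_symm_apply _⟩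

theorem fldAut_x (ρ : F ≃+* F) {r : ℕ} {t : F} {g : ↥(D.group F)}
    (hg : ((g : GL D.Idx F) : Matrix D.Idx D.Idx F) = D.x F r t) :
    ((fldAut hF ρ g : GL D.Idx F) : Matrix D.Idx D.Idx F) = D.x F r (ρ t) := by
  show ρ.toRingHom.mapMatrix (((g : GL D.Idx F) : Matrix D.Idx D.Idx F)) = _
  rw [hg, x_map]
  rfl

theorem isFieldAut_fldAut (ρ : F ≃+* F) : D.IsFieldAut (fldAut hF ρ) :=
  ⟨ρ, fun _ _ _ _ hg => fldAut_x hF ρ hg⟩

end

end Cfsg.Agent.ChevAut
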