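import Cfsg.Agent.ChevAut.Normalise
import Cfsg.Agent.Chev.LongestJ

/-!
The double cosets of `B`, their orders, and their intersections with `U⁻` in the minimal case.
-/

set_option autoImplicit false
set_option maxHeartbeats 1000000

namespace Cfsg.Agent.ChevAut

open Cfsg.Lie Cfsg.Agent.Chev
open scoped MatrixGroups

universe u

variable {D : ChevalleyDatum} {F : Type u} [Field F] (hF : Facts.{u} D)

omit hF in
/-- The double coset `B n B`. -/
def InCell (n x : GL D.Idx F) : Prop :=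
  ∃ a ∈ D.borelSubgroup F, ∃ a' ∈ D.borelSubgroup F, x = a * n * a'

omit hF in
theorem InCell.eq_cell {n n' x : GL D.Idx F} (h : InCell n n') : InCell n x ↔ InCell n' x := by
  obtain ⟨a, ha, a', ha', rfl⟩ := h
  constructor
  · rintro ⟨b, hb, b', hb', rfl⟩
    exact ⟨b * a⁻¹, Subgroup.mul_mem _ hb (Subgroup.inv_mem _ ha), a'⁻¹ * b',
      Subgroup.mul_mem _ (Subgroup.inv_mem _ ha') hb', by group⟩
  · rintro ⟨b, hb, b', hb', rfl⟩
    exact ⟨b * a, Subgroup.mul_mem _ hb ha, a' * b', Subgroup.mul_mem _ ha' hb', by group⟩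

include hF

theorem mon_conj_torus {n : GL D.Idx F} (hn : n ∈ D.monomialSubgroup F) {h : GL D.Idx F}
    (hh : h ∈ D.diagonalSubgroup F) : n * h * n⁻¹ ∈ D.diagonalSubgroup F := by
  obtain ⟨c, rfl⟩ := (mem_diagonal_iff hF).1 hh
  obtain ⟨π, hπ⟩ := isMon_of_mem hF hn
  refine mem_diagonal_of_isMon_one hF (Subgroup.mul_mem _ (Subgroup.mul_mem _ hn
    (Subgroup.mem_sup_left hh)) (Subgroup.inv_mem _ hn)) ?_
  have h2 := isMon_mul hF (isMon_mul hF hπ (isMon_torus hF c)) (isMon_inv hF hn hπ)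
  rwa [mul_one, mul_inv_cancel] at h2

/-- The normal form inside a double coset. -/
theorem cell_normalForm {n x : GL D.Idx F} (hn : n ∈ D.monomialSubgroup F) (hx : InCell n x) :
    ∃ b ∈ D.borelSubgroup F, ∃ m ∈ uMinus hF (monPerm hF n), x = b * n * m := by
  obtain ⟨a, ha, a', ha', rfl⟩ := hx
  obtain ⟨v, hv, c, hc⟩ := (mem_borel_iff hF).1 (Subgroup.inv_mem _ ha')
  obtain ⟨p, hp, m, hm, hpm⟩ := posUnipotent_split hF (monPerm hF n) (Subgroup.inv_mem _ hv)
  refine ⟨a * (n * (torusHom c)⁻¹ * n⁻¹) * (n * p * n⁻¹), Subgroup.mul_mem _ (Subgroup.mul_mem _ ha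
    (Subgroup.mem_sup_right (mon_conj_torus hF hn (Subgroup.inv_mem _ (torusHom_mem hF c)))))
    (Subgroup.mem_sup_left (conj_uPlus hF (isMon_monPerm hF hn) hp)), m, hm, ?_⟩
  rw [show a' = (torusHom c)⁻¹ * v⁻¹ by rw [← mul_inv_rev, ← hc, inv_inv], hpm]
  group

theorem card_cell [Fintype F] {n : ↥(D.group F)} {π : Equiv.Perm (Fin D.nroots)}
    (hn : (n : GL D.Idx F) ∈ D.monomialSubgroup F) (hπ : IsMon hF (n : GL D.Idx F) π) :
    Nat.card {g : ↥(D.group F) // InCell (n : GL D.Idx F) (g : GL D.Idx F)} =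
      Nat.card ↥(D.borelSubgroup F) * Fintype.card F ^ invCard π := by
  rw [← card_uMinus hF hπ, ← Nat.card_prod]
  have hm : monPerm hF (n : GL D.Idx F) = π := monPerm_eq hF hπ
  refine (Nat.card_congr (Equiv.ofBijective
    (fun p : ↥(D.borelSubgroup F) × ↥(uMinus hF π (F := F)) =>
      (⟨⟨(p.1 : GL D.Idx F) * n * p.2, Subgroup.mul_mem _ (Subgroup.mul_mem _
        (borel_le_group hF p.1.2) n.2) (borel_le_group hF (uMinus_le_borel hF _ p.2.2))⟩,
        ⟨p.1, p.1.2, p.2, uMinus_le_borel hF _ p.2.2, rfl⟩⟩ :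
        {g : ↥(D.group F) // InCell (n : GL D.Idx F) (g : GL D.Idx F)})) ⟨?_, ?_⟩)).symm
  · intro p p' e
    have e' := congrArg (fun g : {g : ↥(D.group F) // InCell (n : GL D.Idx F) (g : GL D.Idx F)} =>
      ((g : ↥(D.group F)) : GL D.Idx F)) e
    obtain ⟨h1, h2⟩ := (normalForm_unique hF p.1.2 p'.1.2 hn hn (by rw [hm]; exact p.2.2)
      (by rw [hm]; exact p'.2.2) e').2 rfl
    exact Prod.ext (Subtype.ext h1) (Subtype.ext h2)
  · rintro ⟨g, hg⟩
    obtain ⟨b, hb, m, hmm, e⟩ := cell_normalForm hF hn hg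
    exact ⟨(⟨b, hb⟩, ⟨m, hm ▸ hmm⟩), Subtype.ext (Subtype.ext e.symm)⟩

theorem invSet_wPerm (i : Fin D.rank) : invSet (wPerm hF i) = {sRoot hF i} := by
  classical
  ext r
  rw [mem_invSet', Finset.mem_singleton]
  constructor
  · rintro ⟨h1, h2⟩
    by_contra hne
    rw [wPerm_val] at h2
    exact absurd (hF.refl_pos i i.2 r r.2 h1 fun h => hne (Fin.ext h)) (not_le.2 h2)
  · rintro rfl
    refine ⟨hF.simple_pos i i.2, ?_⟩
    rw [wPerm_sRoot]
    exact (neg_lt_half_iff hF (sRoot hF i).2).2 (hF.simple_pos i i.2)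

theorem eq_wPerm_of_invCard {π : Equiv.Perm (Fin D.nroots)} (hπ : π ∈ weyl hF)
    (h : invCard π = 1) : ∃ i, π = wPerm hF i := by
  classical
  obtain ⟨i, hi⟩ : ∃ i, (π (sRoot hF i) : ℕ) < half D := by
    by_contra hne
    have h1 := eq_one_of_pos hF hπ fun i => not_lt.1 fun h => hne ⟨i, h⟩
    subst h1
    rw [invCard_eq, Finset.card_eq_one] at h
    obtain ⟨a, ha⟩ := h
    have := mem_invSet'.1 (ha.symm ▸ Finset.mem_singleton_self a)
    exact absurd this.2 (not_lt.2 this.1)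
  refine ⟨i, ?_⟩
  have hsW : wPerm hF i ∈ weyl hF := Subgroup.subset_closure ⟨i, rfl⟩
  have h1 : invSet π = {sRoot hF i} := by
    rw [invCard_eq, Finset.card_eq_one] at h
    obtain ⟨a, ha⟩ := h
    have : sRoot hF i ∈ invSet π := mem_invSet'.2 ⟨hF.simple_pos i i.2, hi⟩
    rw [ha, Finset.mem_singleton] at this
    rw [ha, this]
  have hone : π * wPerm hF i = 1 := eq_one_of_pos hF (Subgroup.mul_mem _ hπ hsW) fun j => by
    by_contra hneg
    rw [not_le, Equiv.Perm.mul_apply] at hneg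
    by_cases hji : j = i
    · subst hji
      rw [wPerm_sRoot, weyl_negF hF hπ] at hneg
      exact absurd ((pos_negF_iff hF (π (sRoot hF j))).2 hi) (not_le.2 hneg)
    · have hne : D.simple j ≠ D.simple i := fun e => hji (by
        apply Fin.ext
        by_contra hne'
        have a := hF.coef_simple j j.2 j j.2
        rw [e, hF.coef_simple i i.2 j j.2, if_pos rfl, if_neg hne'] at a
        exact absurd a (by norm_num))
      have hp := hF.refl_pos i i.2 _ (sRoot hF j).2 (hF.simple_pos j j.2) hne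
      have := h1 ▸ (mem_invSet'.2 ⟨hp, hneg⟩ : wPerm hF i (sRoot hF j) ∈ invSet π)
      rw [Finset.mem_singleton] at this
      have h2 := congrArg (wPerm hF i) this
      rw [← Equiv.Perm.mul_apply, wPerm_sq, Equiv.Perm.one_apply, wPerm_sRoot] at h2
      have := hF.simple_pos j j.2
      have h3 : (sRoot hF j : ℕ) < half D := by
        rw [h2]; exact (neg_lt_half_iff hF (sRoot hF i).2).2 (hF.simple_pos i i.2)
      exact absurd h3 (not_lt.2 this)
  rw [mul_eq_one_iff_eq_inv, wPerm_inv] at hone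
  exact hone

theorem mem_uMinus_wPerm {i : Fin D.rank} {x : GL D.Idx F}
    (hx : x ∈ uMinus hF (wPerm hF i)) : ∃ t, x = xG hF (D.simple i) t := by
  have hle : uMinus hF (wPerm hF i) ≤ (xHom hF (D.simple i) (F := F)).range := by
    refine (Subgroup.closure_le _).2 ?_
    rintro g ⟨r, t, h1, h2, rfl⟩
    have : r ∈ invSet (wPerm hF i) := mem_invSet'.2 ⟨h1, h2⟩
    rw [invSet_wPerm hF, Finset.mem_singleton] at this
    subst this
    exact ⟨Multiplicative.ofAdd t, rfl⟩
  obtain ⟨t, rfl⟩ := hle hx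
  exact ⟨t.toAdd, rfl⟩

/-- The lower root element in normal form. -/
theorem xG_neg_simple_eq (i : Fin D.rank) (t : Fˣ) :
    xG hF (D.neg (D.simple i)) ((t⁻¹ : Fˣ) : F) =
      xG hF (D.simple i) (t : F) * (torusHom (coH (D.simple i) (-t)) * nS hF (i : ℕ)) *
        xG hF (D.simple i) (t : F) := by
  rw [← nG_eq_torus_mul hF i.2, nG, Units.val_neg, inv_neg, neg_neg, Units.val_inv_eq_inv_val,
    ← xG_inv]
  group

/-- The intersection of a minimal double coset with `U⁻`. -/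
theorem cell_inf_neg {i : Fin D.rank} {v : GL D.Idx F} (hv : v ∈ D.negUnipotent F)
    (hc : InCell (nS hF (i : ℕ)) v) : ∃ u, v = xG hF (D.neg (D.simple i)) u := by
  obtain ⟨b, hb, m, hm, rfl⟩ := cell_normalForm hF (nS_mem hF i) hc
  rw [monPerm_eq hF (isMon_nS hF i)] at hm
  obtain ⟨t, rfl⟩ := mem_uMinus_wPerm hF hm
  have hp := hF.simple_lt i i.2
  have hnl : D.neg (D.simple i) < half D := (neg_lt_half_iff hF hp).2 (hF.simple_pos i i.2)
  rcases eq_or_ne t 0 with rfl | ht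
  · exfalso
    rw [xG_zero, mul_one] at hv
    obtain ⟨c, hc'⟩ := isMon_conj_mem hF (isMon_inv hF (nS_mem hF i) (isMon_nS hF i (F := F)))
      (sRoot hF i) (1 : F)
    rw [wPerm_inv, inv_inv, wPerm_sRoot] at hc'
    set x := xG hF (D.simple i) (1 : F) with hx
    have hxU : x ∈ D.posUnipotent F := mem_posUnipotent_of hF hp (hF.simple_pos i i.2) 1
    have h1 : b * x * b⁻¹ = 1 := negUnipotent_disjoint hF
      (Subgroup.mem_sup_left (borel_normalizes hF hb hxU)) (by
        rw [show b * x * b⁻¹ = (b * nS hF (i : ℕ)) * ((nS hF (i : ℕ))⁻¹ * x * nS hF (i : ℕ)) *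
          (b * nS hF (i : ℕ))⁻¹ by group]
        refine Subgroup.mul_mem _ (Subgroup.mul_mem _ hv ?_) (Subgroup.inv_mem _ hv)
        rw [hx, show D.simple i = ((sRoot hF i : Fin D.nroots) : ℕ) from rfl, hc']
        exact mem_negUnipotent_of hF (negF hF (sRoot hF i)).2 hnl c)
    rw [conj_eq_one_iff] at h1
    exact one_ne_zero ((xG_eq_one_iff hF hp).1 h1)
  · refine ⟨((Units.mk0 t ht)⁻¹ : Fˣ), ?_⟩
    set u := xG hF (D.neg (D.simple i)) (((Units.mk0 t ht)⁻¹ : Fˣ) : F) with hu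
    have huV : u ∈ D.negUnipotent F := mem_negUnipotent_of hF (neg_lt hF hp) hnl _
    have e := xG_neg_simple_eq hF i (Units.mk0 t ht)
    rw [← hu, Units.val_mk0] at e
    refine mul_inv_eq_one.1 (negUnipotent_disjoint hF ?_
      (Subgroup.mul_mem _ hv (Subgroup.inv_mem _ huV)))
    rw [e, show b * nS hF (i : ℕ) * xG hF (D.simple i) t *
      (xG hF (D.simple i) t * (torusHom (coH (D.simple i) (-Units.mk0 t ht)) * nS hF (i : ℕ)) *
        xG hF (D.simple i) t)⁻¹ =
      b * (torusHom (coH (D.simple i) (-Units.mk0 t ht)))⁻¹ * (xG hF (D.simple i) t)⁻¹ by group]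
    exact Subgroup.mul_mem _ (Subgroup.mul_mem _ hb
      (Subgroup.inv_mem _ (Subgroup.mem_sup_right (torusHom_mem hF _))))
      (Subgroup.inv_mem _ (Subgroup.mem_sup_left (mem_posUnipotent_of hF hp (hF.simple_pos i i.2) _)))

theorem neg_simple_in_cell (i : Fin D.rank) {t : F} (ht : t ≠ 0) :
    InCell (nS hF (i : ℕ)) (xG hF (D.neg (D.simple i)) t) := by
  have e := xG_neg_simple_eq hF i (Units.mk0 t ht)⁻¹
  rw [inv_inv, Units.val_mk0] at e
  have hU : ∀ a : F, xG hF (D.simple i) a ∈ D.borelSubgroup F := fun a => Subgroup.mem_sup_left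
    (mem_posUnipotent_of hF (hF.simple_lt i i.2) (hF.simple_pos i i.2) a)
  exact ⟨_, Subgroup.mul_mem _ (hU ((Units.mk0 t ht)⁻¹ : Fˣ)) (Subgroup.mem_sup_right
    (torusHom_mem hF (coH (D.simple i) (-(Units.mk0 t ht)⁻¹)))), _, hU ((Units.mk0 t ht)⁻¹ : Fˣ),
    e.trans (by simp only [mul_assoc])⟩

end Cfsg.Agent.ChevAut
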