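import Cfsg.Agent.ChevAut.GraphClass

/-!
The six graph classes in type `D₄`.
-/

set_option autoImplicit false
set_option maxHeartbeats 1000000
set_option maxRecDepth 100000

namespace Cfsg.Agent.ChevAut

open Cfsg Cfsg.Lie Cfsg.Agent.Chev
open scoped MatrixGroups commutatorElement

universe u

theorem IsDiagramSymmetry.mul' {D : ChevalleyDatum} {π π' : Equiv.Perm (Fin D.rank)}
    (h : D.IsDiagramSymmetry π) (h' : D.IsDiagramSymmetry π') : D.IsDiagramSymmetry (π * π') :=
  fun i j hij => by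
    rw [Equiv.Perm.mul_apply, Equiv.Perm.mul_apply, h _ _ fun e => hij (π'.injective e), h' i j hij]

theorem IsDiagramSymmetry.inv' {D : ChevalleyDatum} {π : Equiv.Perm (Fin D.rank)}
    (h : D.IsDiagramSymmetry π) : D.IsDiagramSymmetry π⁻¹ := fun i j hij => by
  have := h (π⁻¹ i) (π⁻¹ j) fun e => hij (π⁻¹.injective e)
  simpa using this.symm

theorem d4_exists_facts {π : Equiv.Perm (Fin chevD4.rank)} (h : chevD4.IsDiagramSymmetry π) :
    ∃ ρ ε, GraphFacts chevD4 π ρ ε := by
  rcases d4_symm_cases π h with rfl | rfl | rfl | rfl | rfl | rfl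
  · exact ⟨_, _, d4_012_facts⟩
  · exact ⟨_, _, d4_031_facts⟩
  · exact ⟨_, _, d4_310_facts⟩
  · exact ⟨_, _, d4_213_facts⟩
  · exact ⟨_, _, d4_032_facts⟩
  · exact ⟨_, _, d4_312_facts⟩

theorem d4_isLong : ∀ i : Fin chevD4.rank, chevD4.isLong (chevD4.simple i) = false := d4_lac.2

theorem d4_six : ∀ π ∈ [d4_012_π, d4_031_π, d4_310_π, d4_213_π, d4_032_π, d4_312_π],
    ∀ i j : Fin chevD4.rank, i ≠ j → chevD4.bonds (π i) (π j) = chevD4.bonds i j := by
  decide +kernel

theorem d4_nodup : [d4_012_π, d4_031_π, d4_310_π, d4_213_π, d4_032_π, d4_312_π].Nodup ∧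
    d4_031_π * d4_213_π ≠ d4_213_π * d4_031_π := by decide +kernel

variable {F : Type u} [Field F] [Finite F]

/-- Equal classes come from equal symmetries. -/
theorem d4_same_class (hA : AutFacts.{u} chevD4) {π π' : Equiv.Perm (Fin chevD4.rank)}
    (h : chevD4.IsDiagramSymmetry π) (h' : chevD4.IsDiagramSymmetry π')
    {g g' : MulAut ↥(chevD4.group F)} (hg : GAct g π) (hg' : GAct g' π')
    (e : (mkO chevD4 F g)⁻¹ * mkO chevD4 F g' ∈
      dbar facts_chevD4 hA ⊔ fbar facts_chevD4) : π = π' := by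
  have hc := IsDiagramSymmetry.mul' (IsDiagramSymmetry.inv' h) h'
  obtain ⟨ρ, ε, hG⟩ := d4_exists_facts hc
  have hk := GAct.mul facts_chevD4 d4_isLong hg (gAct_groupAut facts_chevD4 d4_isLong hG)
  rw [mul_inv_cancel_left] at hk
  rw [GAct.eq facts_chevD4 hg' hk, map_mul, inv_mul_cancel_left] at e
  have := eq_one_of_mem_sup facts_chevD4 hA (by simp) hG e
  exact inv_mul_eq_one.1 this

theorem d4_classes (hA : AutFacts.{u} chevD4) :
    6 ≤ (dbar facts_chevD4 hA (F := F) ⊔ fbar facts_chevD4).index ∧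
      ¬ commutator (Cfsg.Out ↥(chevD4.group F)) ≤ dbar facts_chevD4 hA ⊔ fbar facts_chevD4 := by
  classical
  have hD : chevD4 ∈ [chevG2, chevB2, chevD4, chevF4, chevE6, chevE7, chevE8] := by simp
  have hN := sup_normal facts_chevD4 hA hD (F := F)
  set N := dbar facts_chevD4 hA (F := F) ⊔ fbar facts_chevD4 with hNdef
  set L := [d4_012_π, d4_031_π, d4_310_π, d4_213_π, d4_032_π, d4_312_π] with hL
  have hex : ∀ π ∈ L, chevD4.IsDiagramSymmetry π ∧
      ∃ g : MulAut ↥(chevD4.group F), GAct g π := fun π hπ => by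
    have hs : chevD4.IsDiagramSymmetry π := d4_six π hπ
    obtain ⟨ρ, ε, hG⟩ := d4_exists_facts hs
    exact ⟨hs, _, gAct_groupAut facts_chevD4 d4_isLong hG⟩
  refine ⟨?_, fun hcomm => ?_⟩
  · let q : {π // π ∈ L.toFinset} → Cfsg.Out ↥(chevD4.group F) ⧸ N := fun π =>
      QuotientGroup.mk (mkO chevD4 F (hex π.1 (List.mem_toFinset.1 π.2)).2.choose)
    have hq : Function.Injective q := fun π π' e => by
      refine Subtype.ext (d4_same_class hA (hex π.1 (List.mem_toFinset.1 π.2)).1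
        (hex π'.1 (List.mem_toFinset.1 π'.2)).1
        (hex π.1 (List.mem_toFinset.1 π.2)).2.choose_spec
        (hex π'.1 (List.mem_toFinset.1 π'.2)).2.choose_spec ?_)
      exact QuotientGroup.eq.1 e
    have hfin : Finite (Cfsg.Out ↥(chevD4.group F) ⧸ N) :=
      Nat.finite_of_card_ne_zero (index_le facts_chevD4 hA hD).2
    have := Nat.card_le_card_of_injective q hq
    rw [Nat.card_eq_fintype_card, Fintype.card_coe, List.toFinset_card_of_nodup d4_nodup.1] at this
    exact this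
  · obtain ⟨g, hg⟩ := (hex d4_031_π (by simp [hL])).2
    obtain ⟨g', hg'⟩ := (hex d4_213_π (by simp [hL])).2
    refine d4_nodup.2 (d4_same_class hA
      (IsDiagramSymmetry.mul' (hex d4_031_π (by simp [hL])).1 (hex d4_213_π (by simp [hL])).1)
      (IsDiagramSymmetry.mul' (hex d4_213_π (by simp [hL])).1 (hex d4_031_π (by simp [hL])).1)
      (GAct.mul facts_chevD4 d4_isLong hg hg') (GAct.mul facts_chevD4 d4_isLong hg' hg) ?_)
    refine hcomm ?_
    rw [map_mul, map_mul, mul_inv_rev,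
      show (mkO chevD4 F g')⁻¹ * (mkO chevD4 F g)⁻¹ * (mkO chevD4 F g' * mkO chevD4 F g) =
        ⁅(mkO chevD4 F g')⁻¹, (mkO chevD4 F g)⁻¹⁆ by rw [commutatorElement_def, inv_inv, inv_inv]; group]
    exact Subgroup.commutator_mem_commutator (Subgroup.mem_top _) (Subgroup.mem_top _)

end Cfsg.Agent.ChevAut
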