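import Cfsg.Agent.Chev.GradingAll
import Cfsg.Agent.Chev.RootChar
import Cfsg.Prelude.Def_ChevAutomorphisms
import Cfsg.Agent.S2157

/-!
Data used by the theorem on automorphisms: characters of the root lattice with given values on the
fundamental roots, and commuting pairs of fundamental root subgroups.
-/

set_option autoImplicit false
set_option maxHeartbeats 1000000

namespace Cfsg.Agent.ChevAut

open Cfsg.Lie Cfsg.Agent.Chev

universe u

/-- What the theorem on automorphisms needs besides `Facts`. -/
structure AutFacts (D : ChevalleyDatum) : Prop where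
  char : ∀ (F : Type u) [Field F] (c : Fin D.rank → Fˣ),
    ∃ χ : ℕ → Fˣ, D.IsRootCharacter χ ∧ ∀ i : Fin D.rank, χ (D.simple i) = c i
  comm_neg : ∀ j k : Fin D.rank, j ≠ k → D.commTerms (D.neg (D.simple j)) (D.simple k) = []
  comm_orth : ∀ j k : Fin D.rank, j ≠ k → D.cartan j (D.simple k) = 0 →
    D.commTerms (D.simple j) (D.simple k) = []
  conj : ∀ (F : Type u) [Field F] (χ : ℕ → Fˣ), D.IsRootCharacter χ → ∀ r < D.nroots, ∀ t : F,
    D.charDiag F χ * D.x F r t * D.charDiag F (fun s => (χ s)⁻¹) = D.x F r ((χ r : F) * t)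

/-- The check behind `AutFacts`. -/
noncomputable def chkAut (D : ChevalleyDatum) (C : Cert) (mu : List (List ℤ)) (δ : ℤ) : Bool :=
  and (allBelow (fun i => and
      (allBelow (fun r => zbeq (Int.emod (gradeC D C mu i r) δ) 0) D.nroots)
      (allBelow (fun k => zbeq (gradeC D C mu i (D.simple k)) (cond (Nat.beq i k) δ 0)) D.rank))
      D.rank)
    (allBelow (fun j => allBelow (fun k => cond (Nat.beq j k) true
      (and (C.noTerms D (negN D (D.simple j)) (D.simple k))
        (cond (zbeq (C.cA j (D.simple k)) 0) (C.noTerms D (D.simple j) (D.simple k)) true)))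
      D.rank) D.rank)

variable {D : ChevalleyDatum} {C : Cert} (h : Checks D C) (hF : Facts.{u} D)
include h hF

/-- Cartan integers are additive along chains. -/
theorem cartan_add {r s k : ℕ} (hr : r < D.nroots) (hs : s < D.nroots)
    (e : D.chainRoot r s 1 = some k) {j : ℕ} (hj : j < D.rank) :
    k < D.nroots ∧ D.cartan j k = D.cartan j s + D.cartan j r := by
  have hk : k < D.nroots := hF.comm_lt r s hr hs (k, D.chainM r s 1, 1, 1) (by
    simp [ChevalleyDatum.commTerms, e])
  refine ⟨hk, ?_⟩
  simp only [ChevalleyDatum.chainRoot, chainEntry_eq h, Cert.cE] at e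
  cases hc : ((Nat.blt r D.nroots && Nat.blt s D.nroots) &&
      (!Nat.beq s r && !Nat.beq s (negN D r))) with
  | false => rw [hc] at e; simp at e
  | true =>
    rw [hc, cond_true] at e
    simp only [Bool.and_eq_true, Bool.not_eq_true', nbeq_false_iff, negN_eq] at hc
    cases hd : decRaw C.T.K (C.T.slot r (D.rank + s)) with
    | nil => rw [Nat.add_eq, hd] at e; simp at e
    | cons a L =>
      rw [Nat.add_eq, hd] at e
      simp at e
      have hq : (D.rank + k, 1, a.2) ∈ colOf D C.T r (enc D (Sum.inr ⟨s, hs⟩ : D.Idx)) := by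
        rw [show enc D (Sum.inr ⟨s, hs⟩ : D.Idx) = D.rank + s from rfl,
          colOf_eq_addIdx (show D.rank + s ≠ D.rank + (D.nroots - 1 - r) by omega)
          (show D.rank + s < D.rank + D.nroots by omega), hd]
        obtain ⟨a1, a2⟩ := a
        subst e
        rw [addIdx_cons]
        exact List.mem_cons_self
      have := entry_weight h hr hq (a := (Sum.inr ⟨k, hk⟩ : D.Idx)) rfl hj
      simpa using this

theorem autFacts_of_chk {mu : List (List ℤ)} {δ : ℤ} (hδ : δ ≠ 0)
    (hc : chkAut D C mu δ = true) (hl : chkLinks D C.T = true) : AutFacts.{u} D := by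
  simp only [chkAut, Bool.and_eq_true, allBelow_iff] at hc
  obtain ⟨hdiv, hterms⟩ := hc
  have hneg : ∀ r < D.nroots, D.neg r = D.nroots - 1 - r := hF.neg_eq
  -- the coefficient of the fundamental root `i` in the root `r`
  let g : ℕ → ℕ → ℤ := fun i r => ∑ j : Fin D.rank, (mu.getD i []).getD j 0 * D.cartan j r
  have hg : ∀ i r, r < D.nroots → gradeC D C mu i r = g i r := fun i r hr => by
    rw [gradeC, list_range_map_sum]
    exact Finset.sum_congr rfl fun j _ => by rw [cartan_eq h j.2 hr]
  have hd : ∀ i < D.rank, ∀ r < D.nroots, δ ∣ g i r := fun i hi r hr => by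
    have := zbeq_iff.1 ((hdiv i hi).1 r hr)
    rw [hg i r hr] at this
    exact Int.dvd_of_emod_eq_zero this
  refine ⟨fun F _ c => ⟨fun r => ∏ i : Fin D.rank, c i ^ (g i r / δ), ⟨?_, ?_⟩, ?_⟩, ?_, ?_, ?_⟩
  · intro r hr
    rw [← Finset.prod_inv_distrib]
    refine Finset.prod_congr rfl fun i _ => ?_
    have : g i (D.neg r) = -g i r := by
      simp only [g, ← Finset.sum_neg_distrib]
      exact Finset.sum_congr rfl fun j _ => by rw [hF.cartan_neg r hr j j.2]; ring
    rw [this, Int.neg_ediv_of_dvd (hd i i.2 r hr), zpow_neg]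
  · intro r s k hr hs e
    rw [← Finset.prod_mul_distrib]
    refine Finset.prod_congr rfl fun i _ => ?_
    have : g i k = g i s + g i r := by
      simp only [g, ← Finset.sum_add_distrib]
      exact Finset.sum_congr rfl fun j _ => by rw [(cartan_add h hF hr hs e j.2).2]; ring
    rw [this, Int.add_ediv_of_dvd_left (hd i i.2 s hs), zpow_add, mul_comm]
  · intro k
    show ∏ i : Fin D.rank, c i ^ (g i (D.simple k) / δ) = c k
    rw [Finset.prod_eq_single k]
    · have := zbeq_iff.1 ((hdiv k k.2).2 k k.2)
      rw [nbeq_iff.2 rfl, cond_true, hg k _ (hF.simple_lt k k.2)] at this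
      rw [this, Int.ediv_self hδ, zpow_one]
    · intro i _ hik
      have := zbeq_iff.1 ((hdiv i i.2).2 k k.2)
      rw [nbeq_false_iff.2 (fun e => hik (Fin.ext e)), cond_false,
        hg i _ (hF.simple_lt k k.2)] at this
      rw [this, Int.zero_ediv, zpow_zero]
    · intro hn; exact absurd (Finset.mem_univ _) hn
  · intro j k hjk
    have := hterms j j.2 k k.2
    rw [nbeq_false_iff.2 (fun e => hjk (Fin.ext e)), cond_false, Bool.and_eq_true] at this
    obtain ⟨e1, e2⟩ := cE_eq_nil_of_noTerms h this.1
    rw [negN_eq, ← hneg _ (hF.simple_lt j j.2)] at e1 e2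
    rw [commTerms_eq h, cTerms_of_nil h e1 e2]
  · intro j k hjk hz
    have := hterms j j.2 k k.2
    rw [nbeq_false_iff.2 (fun e => hjk (Fin.ext e)), cond_false, Bool.and_eq_true,
      ← cartan_eq h j.2 (hF.simple_lt k k.2), zbeq_iff.2 hz, cond_true] at this
    obtain ⟨e1, e2⟩ := cE_eq_nil_of_noTerms h this.2
    rw [commTerms_eq h, cTerms_of_nil h e1 e2]
  · exact fun F _ χ hχ r hr t => charDiag_conj h hl hχ hr t

omit h hF

theorem g2_aut : chkAut chevG2 g2Cert g2Mu 1 = true := by decide +kernel
theorem b2_aut : chkAut chevB2 b2Cert b2Mu 2 = true := by decide +kernel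
theorem d4_aut : chkAut chevD4 d4Cert d4Mu 2 = true := by decide +kernel
theorem f4_aut : chkAut chevF4 f4Cert f4Mu 1 = true := by decide +kernel
theorem e6_aut : chkAut chevE6 e6Cert e6Mu 3 = true := by decide +kernel
theorem e7_aut : chkAut chevE7 e7Cert e7Mu 2 = true := by decide +kernel
theorem e8_aut : chkAut chevE8 e8Cert e8Mu 1 = true := by decide +kernel

theorem autFacts_of_mem {D : ChevalleyDatum}
    (hD : D ∈ [chevG2, chevB2, chevD4, chevF4, chevE6, chevE7, chevE8]) : AutFacts.{u} D := by
  simp only [List.mem_cons, List.not_mem_nil, or_false] at hD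
  rcases hD with rfl | rfl | rfl | rfl | rfl | rfl | rfl
  · exact autFacts_of_chk g2_checks facts_chevG2 (by norm_num) g2_aut S2157.g2_links
  · exact autFacts_of_chk b2_checks facts_chevB2 (by norm_num) b2_aut S2157.b2_links
  · exact autFacts_of_chk d4_checks facts_chevD4 (by norm_num) d4_aut S2157.d4_links
  · exact autFacts_of_chk f4_checks facts_chevF4 (by norm_num) f4_aut S2157.f4_links
  · exact autFacts_of_chk e6_checks facts_chevE6 (by norm_num) e6_aut S2157.e6_links
  · exact autFacts_of_chk e7_checks facts_chevE7 (by norm_num) e7_aut S2157.e7_links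
  · exact autFacts_of_chk e8_checks facts_chevE8 (by norm_num) e8_aut S2157.e8_links

end Cfsg.Agent.ChevAut
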