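import Cfsg.Agent.ChevAut.Cells
import Cfsg.Agent.ChevAut.Hua
import Cfsg.Agent.Chev.Functorial

/-!
A normalised automorphism permutes the fundamental root subgroups and their negatives.
-/

set_option autoImplicit false
set_option maxHeartbeats 1000000

namespace Cfsg.Agent.ChevAut

open Cfsg.Lie Cfsg.Agent.Chev
open scoped MatrixGroups

universe u

variable {D : ChevalleyDatum} {F : Type u} [Field F] (hF : Facts.{u} D)

include hF

/-- A root element in the group. -/
def rX (r : ℕ) (t : F) : ↥(D.group F) := ⟨xG hF r t, xG_mem_group hF r t⟩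

/-- A fundamental reflection in the group. -/
def rS (i : Fin D.rank) : ↥(D.group F) := ⟨nS hF (i : ℕ), nG_mem_group hF _ _⟩

omit hF in
theorem Normalised.mem_u {θ : ↥(D.group F) ≃* ↥(D.group F)} (h : Normalised θ)
    (x : ↥(D.group F)) : θ x ∈ uG D F ↔ x ∈ uG D F := by
  conv_lhs => rw [← h.1]
  exact Subgroup.mem_map_iff_mem θ.injective

omit hF in
theorem Normalised.mem_v {θ : ↥(D.group F) ≃* ↥(D.group F)} (h : Normalised θ)
    (x : ↥(D.group F)) : θ x ∈ vG D F ↔ x ∈ vG D F := by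
  conv_lhs => rw [← h.2]
  exact Subgroup.mem_map_iff_mem θ.injective

theorem Normalised.mem_borel {θ : ↥(D.group F) ≃* ↥(D.group F)} (h : Normalised θ)
    (x : ↥(D.group F)) :
    (θ x : GL D.Idx F) ∈ D.borelSubgroup F ↔ (x : GL D.Idx F) ∈ D.borelSubgroup F := by
  constructor
  · intro hx
    refine mem_borel_of_normalizes hF x.2 fun u hu => ?_
    set uu : ↥(D.group F) := ⟨u, posUnipotent_le_group hF hu⟩
    have h1 : θ (x * uu * x⁻¹) ∈ uG D F := by
      rw [map_mul, map_mul, map_inv]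
      exact borel_normalizes hF hx ((h.mem_u uu).2 hu)
    exact (h.mem_u _).1 h1
  · intro hx
    refine mem_borel_of_normalizes hF (θ x).2 fun u hu => ?_
    set uu : ↥(D.group F) := ⟨u, posUnipotent_le_group hF hu⟩
    obtain ⟨v, hv⟩ := θ.surjective uu
    have hvU : v ∈ uG D F := (h.mem_u v).1 (by rw [hv]; exact hu)
    have h1 : θ (x * v * x⁻¹) ∈ uG D F := (h.mem_u _).2 (borel_normalizes hF hx hvU)
    rw [map_mul, map_mul, map_inv, hv] at h1
    exact h1

theorem Normalised.inCell {θ : ↥(D.group F) ≃* ↥(D.group F)} (h : Normalised θ)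
    (n x : ↥(D.group F)) :
    InCell (θ n : GL D.Idx F) (θ x : GL D.Idx F) ↔ InCell (n : GL D.Idx F) (x : GL D.Idx F) := by
  constructor
  · rintro ⟨a, ha, a', ha', e⟩
    obtain ⟨y, hy⟩ := θ.surjective ⟨a, borel_le_group hF ha⟩
    obtain ⟨y', hy'⟩ := θ.surjective ⟨a', borel_le_group hF ha'⟩
    have hx : x = y * n * y' := θ.injective (Subtype.ext (by
      rw [map_mul, map_mul, hy, hy']; exact e))
    exact ⟨y, (h.mem_borel hF y).1 (by rw [hy]; exact ha), y',
      (h.mem_borel hF y').1 (by rw [hy']; exact ha'), congrArg Subtype.val hx⟩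
  · rintro ⟨a, ha, a', ha', e⟩
    have hx : x = ⟨a, borel_le_group hF ha⟩ * n * ⟨a', borel_le_group hF ha'⟩ := Subtype.ext e
    refine ⟨_, (h.mem_borel hF ⟨a, borel_le_group hF ha⟩).2 ha, _,
      (h.mem_borel hF ⟨a', borel_le_group hF ha'⟩).2 ha', ?_⟩
    rw [hx, map_mul, map_mul]; rfl

variable [Fintype F]

theorem Normalised.exists_cell {θ : ↥(D.group F) ≃* ↥(D.group F)} (h : Normalised θ)
    (i : Fin D.rank) : ∃ j : Fin D.rank, InCell (nS hF (j : ℕ)) (θ (rS hF i) : GL D.Idx F) := by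
  obtain ⟨b, hb, w, x, hx, e⟩ := exists_normalForm hF (θ (rS hF i)).2
  set n : ↥(D.group F) := ⟨nWord hF w, monomial_le_group hF (nWord_mem hF w)⟩
  have hcell : InCell (n : GL D.Idx F) (θ (rS hF i) : GL D.Idx F) :=
    ⟨b, hb, x, uMinus_le_borel hF _ hx, e⟩
  have h1 := card_cell hF (n := n) (nWord_mem hF w) (isMon_nWord hF w)
  have h2 := card_cell hF (n := rS hF i (F := F)) (nS_mem hF i) (isMon_nS hF i)
  have h3 : Nat.card {g : ↥(D.group F) // InCell (n : GL D.Idx F) (g : GL D.Idx F)} =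
      Nat.card {g : ↥(D.group F) // InCell ((rS hF i : ↥(D.group F)) : GL D.Idx F) (g : GL D.Idx F)} := by
    refine Nat.card_congr (θ.toEquiv.subtypeEquiv fun g => ?_).symm
    exact ((hcell.eq_cell).trans (h.inCell hF (rS hF i) g)).symm
  rw [h1, h2, invCard_eq (wPerm hF i), invSet_wPerm hF, Finset.card_singleton] at h3
  have hlen : invCard (pWord hF w) = 1 :=
    Nat.pow_right_injective Fintype.one_lt_card
      (Nat.eq_of_mul_eq_mul_left Nat.card_pos h3)
  obtain ⟨j, hj⟩ := eq_wPerm_of_invCard hF (pWord_mem hF w) hlen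
  obtain ⟨c, hc⟩ := (mem_diagonal_iff hF).1 (mem_diagonal_of_isMon_one hF
    (Subgroup.mul_mem _ (Subgroup.inv_mem _ (nS_mem hF j)) (nWord_mem hF w))
    (by
      have := isMon_mul hF (isMon_inv hF (nS_mem hF j) (isMon_nS hF j (F := F))) (isMon_nWord hF w)
      rwa [hj, inv_mul_cancel] at this))
  refine ⟨j, b, hb, torusHom c * x, Subgroup.mul_mem _
    (Subgroup.mem_sup_right (torusHom_mem hF c)) (uMinus_le_borel hF _ hx), ?_⟩
  rw [e, hc]; group

/-- The permutation of the nodes seen on the negative root subgroups. -/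
theorem Normalised.exists_negPerm {θ : ↥(D.group F) ≃* ↥(D.group F)} (h : Normalised θ) :
    ∃ σ : Fin D.rank → Fin D.rank, Function.Injective σ ∧ ∀ (i : Fin D.rank) (t : F), ∃ u : F,
      θ (rX hF (D.neg (D.simple i)) t) = rX hF (D.neg (D.simple (σ i))) u := by
  choose σ hσ using h.exists_cell hF
  refine ⟨σ, fun i k e => ?_, fun i t => ?_⟩
  · have h1 : InCell (θ (rS hF i) : GL D.Idx F) (θ (rS hF k) : GL D.Idx F) :=
      ((hσ i).eq_cell).1 (e ▸ hσ k)
    obtain ⟨b, hb, m, hm, e2⟩ := cell_normalForm hF (nS_mem hF i) ((h.inCell hF _ _).1 h1)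
    obtain ⟨c, hc⟩ := (mem_diagonal_iff hF).1 (normalForm_unique hF hb (Subgroup.one_mem _)
      (nS_mem hF i) (nS_mem hF k) hm (Subgroup.one_mem _) (x' := 1) (b' := 1)
      (by rw [one_mul, mul_one]; exact e2.symm)).1
    have h3 := isMon_nS hF k (F := F)
    rw [show (nS hF (k : ℕ) : GL D.Idx F) = nS hF (i : ℕ) * torusHom c by
      rw [hc]; group] at h3
    have h4 := isMon_unique hF h3 (isMon_mul hF (isMon_nS hF i) (isMon_torus hF c))
    rw [mul_one] at h4
    exact (wPerm_injective hF h4).symm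
  · have hp := hF.simple_lt i i.2
    have hv : θ (rX hF (D.neg (D.simple i)) t) ∈ vG D F :=
      (h.mem_v _).2 (mem_negUnipotent_of hF (neg_lt hF hp)
        ((neg_lt_half_iff hF hp).2 (hF.simple_pos i i.2)) t)
    rcases eq_or_ne t 0 with rfl | ht
    · refine ⟨0, ?_⟩
      have : ∀ r, rX hF r (0 : F) = 1 := fun r => Subtype.ext (xG_zero hF r)
      rw [this, this, map_one]
    have hc : InCell (nS hF (σ i : ℕ)) (θ (rX hF (D.neg (D.simple i)) t) : GL D.Idx F) :=
      ((hσ i).eq_cell).2 ((h.inCell hF _ _).2 (neg_simple_in_cell hF i ht))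
    obtain ⟨u, hu⟩ := cell_inf_neg hF hv hc
    exact ⟨u, Subtype.ext hu⟩

omit [Fintype F] in
/-- A representative of the longest element carries negative fundamental roots to fundamental ones. -/
theorem exists_flip : ∃ (c : ↥(D.group F)) (π : Fin D.rank → Fin D.rank), Function.Bijective π ∧
    (uG D F).map (MulAut.conj c).toMonoidHom = vG D F ∧
    (vG D F).map (MulAut.conj c).toMonoidHom = uG D F ∧
    ∀ j : Fin D.rank, ∃ e : F, e ≠ 0 ∧ ∀ t, c * rX hF (D.neg (D.simple j)) t * c⁻¹ =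
      rX hF (D.simple (π j)) (e * t) := by
  obtain ⟨w, hw⟩ := exists_longest hF
  set c : ↥(D.group F) := ⟨nWord hF w, monomial_le_group hF (nWord_mem hF w)⟩ with hc
  have hw' : ∀ r : Fin D.nroots, (((pWord hF w)⁻¹ r : Fin D.nroots) : ℕ) < half D ↔
      half D ≤ (r : ℕ) := by
    intro r
    have h1 := hw ((pWord hF w)⁻¹ r)
    rw [show pWord hF w ((pWord hF w)⁻¹ r) = r by simp] at h1
    constructor
    · intro h2; by_contra h3; exact absurd (h1.1 (not_le.1 h3)) (not_le.2 h2)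
    · intro h2; by_contra h3; exact absurd (h1.2 (not_lt.1 h3)) (not_lt.2 h2)
  have hle : ∀ (g : ↥(D.group F)) (π : Equiv.Perm (Fin D.nroots)),
      IsMon hF (g : GL D.Idx F) π → (∀ r : Fin D.nroots, (π r : ℕ) < half D ↔ half D ≤ (r : ℕ)) →
      (∀ x ∈ uG D F, g * x * g⁻¹ ∈ vG D F) ∧ ∀ x ∈ vG D F, g * x * g⁻¹ ∈ uG D F := by
    intro g π hg hπ
    constructor
    · intro x hx
      refine (Subgroup.closure_le ((D.negUnipotent F).comap
        (MulAut.conj (g : GL D.Idx F)).toMonoidHom)).2 ?_ hx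
      rintro y ⟨r, t, hr, e⟩
      rw [show y = xG hF r t from Units.ext e]
      obtain ⟨v, hv⟩ := isMon_conj_mem hF hg ⟨r, hr.1⟩ t
      show (g : GL D.Idx F) * xG hF r t * (g : GL D.Idx F)⁻¹ ∈ D.negUnipotent F
      rw [hv]
      exact mem_negUnipotent_of hF (π ⟨r, hr.1⟩).2 ((hπ _).2 ((hF.posRoot_iff r hr.1).1 hr)) _
    · intro x hx
      refine (Subgroup.closure_le ((D.posUnipotent F).comap
        (MulAut.conj (g : GL D.Idx F)).toMonoidHom)).2 ?_ hx
      rintro y ⟨r, t, hr, e⟩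
      rw [show y = xG hF r t from Units.ext e]
      obtain ⟨v, hv⟩ := isMon_conj_mem hF hg ⟨r, hr.1⟩ t
      show (g : GL D.Idx F) * xG hF r t * (g : GL D.Idx F)⁻¹ ∈ D.posUnipotent F
      rw [hv]
      exact mem_posUnipotent_of hF (π ⟨r, hr.1⟩).2 (not_lt.1 fun h2 =>
        absurd ((hπ _).1 h2) (not_le.2 ((hF.negRoot_iff r hr.1).1 hr))) _
  obtain ⟨f1, f2⟩ := hle c _ (isMon_nWord hF w) hw
  obtain ⟨b1, b2⟩ := hle c⁻¹ _ (isMon_inv hF (nWord_mem hF w) (isMon_nWord hF w)) hw'
  have hsimple : ∀ j : Fin D.rank, ∃ k : Fin D.rank,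
      pWord hF w (negF hF (sRoot hF j)) = sRoot hF k := by
    intro j
    classical
    have hs : wPerm hF j ∈ weyl hF := Subgroup.subset_closure ⟨j, rfl⟩
    set π := pWord hF w * wPerm hF j * (pWord hF w)⁻¹ with hπ
    set r := pWord hF w (negF hF (sRoot hF j)) with hr
    have hset : invSet π = {r} := by
      ext s
      rw [mem_invSet', Finset.mem_singleton, hπ, Equiv.Perm.mul_apply, Equiv.Perm.mul_apply, hw]
      set y := (pWord hF w)⁻¹ s with hy
      have hsy : s = pWord hF w y := by rw [hy]; simp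
      constructor
      · rintro ⟨h1, h2⟩
        rw [hsy, hr]
        congr 1
        have hyneg : (y : ℕ) < half D := (hw' s).2 h1
        by_contra hne
        have h3 : negF hF y ≠ sRoot hF j := fun e => hne (by rw [← e, negF_negF])
        have h4 := hF.refl_pos j j.2 _ (negF hF y).2 ((pos_negF_iff hF y).2 hyneg)
          fun e => h3 (Fin.ext e)
        rw [← wPerm_val hF j (negF hF y), wPerm_negF, pos_negF_iff] at h4
        exact absurd h4 (not_lt.2 h2)
      · intro e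
        have hy' : y = negF hF (sRoot hF j) := by rw [hy, e, hr]; simp
        have hlt : (negF hF (sRoot hF j) : ℕ) < half D :=
          (neg_lt_half_iff hF (sRoot hF j).2).2 (hF.simple_pos j j.2)
        refine ⟨(hw' s).1 (by rw [← hy, hy']; exact hlt), ?_⟩
        rw [hy', wPerm_negF, wPerm_sRoot, negF_negF]
        exact hF.simple_pos j j.2
    obtain ⟨k, hk⟩ := eq_wPerm_of_invCard hF (π := π) (Subgroup.mul_mem _ (Subgroup.mul_mem _
      (pWord_mem hF w) hs) (Subgroup.inv_mem _ (pWord_mem hF w)))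
      (by rw [invCard_eq, hset, Finset.card_singleton])
    rw [hk, invSet_wPerm hF, Finset.singleton_inj] at hset
    exact ⟨k, hset.symm⟩
  choose π hπ using hsimple
  have hinj : Function.Injective π := by
    intro a b e
    have h1 := (hπ a).trans ((congrArg (sRoot hF) e).trans (hπ b).symm)
    have h2 := (pWord hF w).injective h1
    have h3 := congrArg (negF hF) h2
    rw [negF_negF, negF_negF] at h3
    apply wPerm_injective hF
    have : D.simple a = D.simple b := congrArg Fin.val h3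
    apply Equiv.ext
    intro s
    by_contra hne
    apply hne
    have hab : (a : ℕ) = (b : ℕ) := by
      by_contra hne'
      have x := hF.coef_simple a a.2 a a.2
      rw [this, hF.coef_simple b b.2 a a.2, if_pos rfl, if_neg hne'] at x
      exact absurd x (by norm_num)
    rw [Fin.ext hab]
  have hcancel : ∀ x : ↥(D.group F), c * (c⁻¹ * x * c⁻¹⁻¹) * c⁻¹ = x := fun x => by group
  refine ⟨c, π, Finite.injective_iff_bijective.1 hinj, le_antisymm ?_ ?_, le_antisymm ?_ ?_, ?_⟩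
  · rintro _ ⟨x, hx, rfl⟩; exact f1 x hx
  · intro x hx; exact ⟨_, b2 x hx, hcancel x⟩
  · rintro _ ⟨x, hx, rfl⟩; exact f2 x hx
  · intro x hx; exact ⟨_, b1 x hx, hcancel x⟩
  · intro j
    obtain ⟨e, he, hconj⟩ := isMon_nWord hF w (F := F) (negF hF (sRoot hF j))
    refine ⟨e, he, fun t => Subtype.ext ?_⟩
    show nWord hF w * xG hF (negF hF (sRoot hF j) : ℕ) t * (nWord hF w)⁻¹ = _
    rw [hconj, mul_inv_cancel_right, hπ]
    rfl

/-- The images of the positive fundamental root subgroups. -/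
theorem Normalised.exists_posPerm {θ : ↥(D.group F) ≃* ↥(D.group F)} (h : Normalised θ) :
    ∀ (i : Fin D.rank), ∃ k : Fin D.rank, ∀ t, ∃ u : F,
      θ (rX hF (D.simple i) t) = rX hF (D.simple k) u := by
  obtain ⟨c, π, hπ, hUV, hVU, hflip⟩ := exists_flip hF (F := F)
  set θ' : ↥(D.group F) ≃* ↥(D.group F) :=
    ((MulAut.conj c).trans θ).trans (MulAut.conj c⁻¹) with hθ'
  have happ : ∀ y, θ' y = c⁻¹ * θ (c * y * c⁻¹) * c := fun y => by
    simp [θ', MulAut.conj_apply]
  have e : θ'.toMonoidHom = (MulAut.conj c⁻¹).toMonoidHom.comp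
      (θ.toMonoidHom.comp (MulAut.conj c).toMonoidHom) := rfl
  have hid : ∀ K : Subgroup ↥(D.group F),
      (K.map (MulAut.conj c).toMonoidHom).map (MulAut.conj c⁻¹).toMonoidHom = K := fun K => by
    rw [Subgroup.map_map]
    convert Subgroup.map_id K
    ext y
    simp [mul_assoc]
  have hN : Normalised θ' := by
    constructor <;> rw [e, ← Subgroup.map_map, ← Subgroup.map_map]
    · rw [hUV, h.2, ← hUV, hid]
    · rw [hVU, h.1, ← hVU, hid]
  obtain ⟨σ, -, hσ⟩ := hN.exists_negPerm hF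
  intro i
  obtain ⟨j, rfl⟩ := hπ.2 i
  refine ⟨π (σ j), fun t => ?_⟩
  obtain ⟨e, he, hj⟩ := hflip j
  obtain ⟨u, hu⟩ := hσ j (e⁻¹ * t)
  obtain ⟨e', -, hj'⟩ := hflip (σ j)
  refine ⟨e' * u, ?_⟩
  rw [happ, hj, ← mul_assoc, mul_inv_cancel₀ he, one_mul] at hu
  rw [← hj', ← hu]
  group

omit [Fintype F] in
/-- The conjugation characterising the parameter of the middle factor. -/
theorem rank_one_unique (i : Fin D.rank) {a b c : F} (ha : a ≠ 0) (hc : c ≠ 0)
    (h : (xG hF (D.simple i) a * xG hF (D.neg (D.simple i)) b * xG hF (D.simple i) a) *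
      xG hF (D.simple i) c *
      (xG hF (D.simple i) a * xG hF (D.neg (D.simple i)) b * xG hF (D.simple i) a)⁻¹ ∈
        D.negUnipotent F) : b = -a⁻¹ := by
  set p := D.simple (i : ℕ) with hp'
  have hp : p < D.nroots := hF.simple_lt i i.2
  have hpp : half D ≤ p := hF.simple_pos i i.2
  have hU : ∀ x : F, xG hF p x ∈ D.posUnipotent F := fun x => mem_posUnipotent_of hF hp hpp x
  have hb : b ≠ 0 := by
    rintro rfl
    rw [xG_zero, mul_one] at h
    have h1 := negUnipotent_disjoint hF (Subgroup.mem_sup_left (Subgroup.mul_mem _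
      (Subgroup.mul_mem _ (Subgroup.mul_mem _ (hU a) (hU a)) (hU c))
      (Subgroup.inv_mem _ (Subgroup.mul_mem _ (hU a) (hU a))))) h
    rw [conj_eq_one_iff, xG_eq_one_iff hF hp] at h1
    exact hc h1
  set v : Fˣ := Units.mk0 b⁻¹ (inv_ne_zero hb) with hv
  have ev := xG_neg_simple_eq hF i v
  rw [show ((v⁻¹ : Fˣ) : F) = b by simp [hv]] at ev
  obtain ⟨q, hq⟩ := isMon_conj_mem hF
    (isMon_mul hF (isMon_torus hF (coH (D.simple i) (-v))) (isMon_nS hF i)) (sRoot hF i) c
  rw [one_mul, wPerm_sRoot] at hq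
  set d := a + b⁻¹ with hd
  have hM : xG hF p a * xG hF (D.neg p) b * xG hF p a =
      xG hF p d * (torusHom (coH p (-v)) * nS hF (i : ℕ)) * xG hF p d := by
    rw [ev, hd, show ((v : Fˣ) : F) = b⁻¹ from rfl, ← xG_mul hF p a]
    conv_rhs => arg 2; rw [xG_mul, add_comm a, ← xG_mul]
    simp only [mul_assoc, hp']
  have hq' : torusHom (coH p (-v)) * nS hF (i : ℕ) * xG hF p c *
      (torusHom (coH p (-v)) * nS hF (i : ℕ))⁻¹ = xG hF (D.neg p) q := hq
  rw [hM, show xG hF p d * (torusHom (coH p (-v)) * nS hF (i : ℕ)) * xG hF p d * xG hF p c *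
      (xG hF p d * (torusHom (coH p (-v)) * nS hF (i : ℕ)) * xG hF p d)⁻¹ =
      xG hF p d * ((torusHom (coH p (-v)) * nS hF (i : ℕ)) *
        (xG hF p d * xG hF p c * (xG hF p d)⁻¹) *
        (torusHom (coH p (-v)) * nS hF (i : ℕ))⁻¹) * (xG hF p d)⁻¹ by group,
    xG_inv, xG_mul, xG_mul, add_neg_cancel_comm, hq'] at h
  have hq0 : q ≠ 0 := by
    rintro rfl
    rw [xG_zero, conj_eq_one_iff] at hq'
    exact hc ((xG_eq_one_iff hF hp).1 hq')
  suffices hd0 : d = 0 by
    rw [hd, add_eq_zero_iff_eq_neg] at hd0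
    rw [hd0, inv_neg, neg_neg, inv_inv]
  set r : Fˣ := Units.mk0 q⁻¹ (inv_ne_zero hq0) with hr
  have er := xG_neg_simple_eq hF i r
  rw [show ((r⁻¹ : Fˣ) : F) = q by simp [hr], show ((r : Fˣ) : F) = q⁻¹ from rfl] at er
  -- compare two normal forms of an element of the cell
  have hcell : InCell (nS hF (i : ℕ))
      (xG hF p d * xG hF (D.neg p) q * xG hF p (-d)) := by
    obtain ⟨x, hx, x', hx', exx⟩ := neg_simple_in_cell hF i hq0
    exact ⟨xG hF p d * x, Subgroup.mul_mem _ (Subgroup.mem_sup_left (hU d)) hx,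
      x' * xG hF p (-d), Subgroup.mul_mem _ hx' (Subgroup.mem_sup_left (hU _)),
      by rw [hp', exx]; group⟩
  obtain ⟨s, hs⟩ := cell_inf_neg hF h hcell
  rcases eq_or_ne s 0 with rfl | hs0
  · rw [xG_zero, ← xG_inv, conj_eq_one_iff, xG_eq_one_iff hF (neg_lt hF hp)] at hs
    exact absurd hs hq0
  set r' : Fˣ := Units.mk0 s⁻¹ (inv_ne_zero hs0) with hr'
  have es := xG_neg_simple_eq hF i r'
  rw [show ((r'⁻¹ : Fˣ) : F) = s by simp [hr'], show ((r' : Fˣ) : F) = s⁻¹ from rfl] at es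
  have hB : ∀ (x : F) (z : Fin D.rank → Fˣ), xG hF p x * torusHom z ∈ D.borelSubgroup F :=
    fun x z => Subgroup.mul_mem _ (Subgroup.mem_sup_left (hU x))
      (Subgroup.mem_sup_right (torusHom_mem hF z))
  have hm : ∀ x : F, xG hF p x ∈ uMinus hF (monPerm hF (nS hF (i : ℕ) : GL D.Idx F)) := fun x => by
    rw [monPerm_eq hF (isMon_nS hF i)]
    refine Subgroup.subset_closure ⟨sRoot hF i, x, hpp, ?_, rfl⟩
    show ((wPerm hF i) (sRoot hF i) : ℕ) < half D
    rw [wPerm_sRoot]; exact (neg_lt_half_iff hF hp).2 hpp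
  have heq : xG hF p (d + q⁻¹) * torusHom (coH p (-r)) * nS hF (i : ℕ) * xG hF p (q⁻¹ + -d) =
      xG hF p s⁻¹ * torusHom (coH p (-r')) * nS hF (i : ℕ) * xG hF p s⁻¹ := by
    rw [← xG_mul hF p d q⁻¹, ← xG_mul hF p q⁻¹ (-d)]
    refine Eq.trans ?_ ((hs.trans es).trans ?_)
    · rw [hp', er]; group
    · rw [hp']; group
  obtain ⟨h1, h2⟩ := (normalForm_unique hF (hB _ _) (hB _ _) (nS_mem hF i) (nS_mem hF i)
    (hm _) (hm _) heq).2 rfl
  obtain ⟨h3, h3'⟩ := posUnipotent_torus_unique hF (hU _) (hU _) h1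
  have k1 : d + q⁻¹ = s⁻¹ := (eq_of_x_eq hF hp (by
    intro h0
    rw [h0, xG_zero] at h3
    have := (xG_eq_one_iff hF hp).1 h3.symm
    exact inv_ne_zero hs0 this) (congrArg Units.val h3)).2
  have k2 : q⁻¹ + -d = s⁻¹ := by
    have := h2
    by_contra hne
    rcases eq_or_ne (q⁻¹ + -d) 0 with h0 | h0
    · rw [h0, xG_zero] at this
      exact inv_ne_zero hs0 ((xG_eq_one_iff hF hp).1 this.symm)
    · exact hne (eq_of_x_eq hF hp h0 (congrArg Units.val this)).2
  have hdd : d + d = 0 := by linear_combination k1 - k2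
  by_cases h2F : (2 : F) = 0
  · have hchi : ∀ z : Fˣ, (chiU (coH (D := D) p z) p : F) = (z : F) * z := fun z => by
      rw [hp', coH_simple hF i.2, chiU_mulSingle i.2, hF.cartan_self i i.2,
        show (2 : ℤ) = ((2 : ℕ) : ℤ) from rfl, zpow_natCast, Units.val_pow_eq_pow_val, sq]
    have e1 := torusHom_conj hF (coH p (-r)) hp (1 : F)
    rw [h3', torusHom_conj hF (coH p (-r')) hp, mul_left_inj] at e1
    have e2 := (eq_of_x_eq hF hp (mul_ne_zero (Units.ne_zero _) one_ne_zero)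
      (congrArg Units.val e1)).2
    rw [mul_one, mul_one, hchi, hchi] at e2
    simp only [hr, hr', Units.val_neg, Units.val_mk0] at e2
    have e3 : (s⁻¹ - q⁻¹) * (s⁻¹ - q⁻¹) = 0 := by
      linear_combination e2 + (-(s⁻¹ * q⁻¹) + q⁻¹ * q⁻¹) * h2F
    have e4 : s⁻¹ - q⁻¹ = 0 := mul_self_eq_zero.1 e3
    linear_combination k1 + e4
  · have : (2 : F) * d = 0 := by rw [two_mul]; exact hdd
    exact (mul_eq_zero.1 this).resolve_left h2F

end Cfsg.Agent.ChevAut
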