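import Cfsg.Agent.ChevAut.OutStructure
import Cfsg.Agent.ChevAut.Simple
import Cfsg.Agent.Chev.GraphSymm

/-!
Graph automorphisms of signed-permutation form and their classes modulo diagonal and field ones.
-/

set_option autoImplicit false
set_option maxHeartbeats 1000000

namespace Cfsg.Agent.ChevAut

open Cfsg Cfsg.Lie Cfsg.Agent.Chev
open scoped MatrixGroups

universe u

variable {D : ChevalleyDatum} {F : Type u} [Field F] (hF : Facts.{u} D)

include hF

theorem graphExp_eq_one (hlong : ∀ i : Fin D.rank, D.isLong (D.simple i) = false)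
    (i j : Fin D.rank) : D.graphExp (ringChar F) i j = 1 := by
  simp [ChevalleyDatum.graphExp, hlong j]

theorem gAct_groupAut (hlong : ∀ i : Fin D.rank, D.isLong (D.simple i) = false)
    {π : Equiv.Perm (Fin D.rank)} {ρ : Equiv.Perm (Fin D.nroots)} {ε : Fin D.nroots → ℤ}
    (hG : GraphFacts D π ρ ε) : GAct (hG.groupAut hF (F := F)) π := by
  intro g i t
  rw [graphExp_eq_one hF hlong, pow_one]
  refine ⟨fun hg => ?_, fun hg => ?_⟩
  · rw [hG.groupAut_val, show (g : GL D.Idx F) = xG hF (sRoot hF i : ℕ) t from Units.ext hg,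
      hG.aut_pm hF ⟨i, i.2, Or.inl rfl⟩, (hG.simple i (sRoot hF i) rfl).1]
    rfl
  · rw [hG.groupAut_val, show (g : GL D.Idx F) = xG hF (negF hF (sRoot hF i) : ℕ) t from Units.ext hg,
      hG.aut_pm hF ⟨i, i.2, Or.inr rfl⟩, (hG.neg (sRoot hF i) (negF hF (sRoot hF i)) rfl).1,
      (hG.simple i (sRoot hF i) rfl).1]
    rfl

theorem GAct.mul (hlong : ∀ i : Fin D.rank, D.isLong (D.simple i) = false)
    {g g' : MulAut ↥(D.group F)} {π π' : Equiv.Perm (Fin D.rank)} (h : GAct g π) (h' : GAct g' π') :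
    GAct (g * g') (π * π') := by
  intro x i t
  have e := graphExp_eq_one hF hlong (F := F)
  rw [e, pow_one]
  refine ⟨fun hx => ?_, fun hx => ?_⟩
  · have h1 := (h' x i t).1 hx
    rw [e, pow_one] at h1
    have h2 := (h (g' x) (π' i) t).1 h1
    rwa [e, pow_one] at h2
  · have h1 := (h' x i t).2 hx
    rw [e, pow_one] at h1
    have h2 := (h (g' x) (π' i) t).2 h1
    rwa [e, pow_one] at h2

/-- An element normalising `U` and `U⁻` is a torus element. -/
theorem exists_torus_of_normalizes {x : GL D.Idx F} (hx : x ∈ D.group F)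
    (hU : ∀ y ∈ D.posUnipotent F, x * y * x⁻¹ ∈ D.posUnipotent F)
    (hV : ∀ y ∈ D.negUnipotent F, x * y * x⁻¹ ∈ D.negUnipotent F) :
    ∃ c : Fin D.rank → Fˣ, x = torusHom c := by
  obtain ⟨v, hv, c, rfl⟩ := (mem_borel_iff hF).1 (mem_borel_of_normalizes hF hx hU)
  obtain ⟨n, hn, hmap⟩ := exists_longest_conj hF (F := F)
  have hnU : ∀ y ∈ D.posUnipotent F, (n : GL D.Idx F) * y * (n : GL D.Idx F)⁻¹ ∈ D.negUnipotent F :=
    fun y hy => hmap.le ⟨⟨y, posUnipotent_le_group hF hy⟩, hy, rfl⟩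
  have hVn : ∀ y ∈ D.negUnipotent F, (n : GL D.Idx F)⁻¹ * y * (n : GL D.Idx F) ∈ D.posUnipotent F := by
    intro y hy
    obtain ⟨z, hz, hzy⟩ := hmap.ge (show (⟨y, negUnipotent_le_group hF hy⟩ : ↥(D.group F)) ∈ vG D F
      from hy)
    rw [show y = (n : GL D.Idx F) * (z : GL D.Idx F) * (n : GL D.Idx F)⁻¹ from
      (congrArg Subtype.val hzy).symm]
    rw [show (n : GL D.Idx F)⁻¹ * ((n : GL D.Idx F) * (z : GL D.Idx F) * (n : GL D.Idx F)⁻¹) *
      (n : GL D.Idx F) = (z : GL D.Idx F) by group]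
    exact hz
  have hvV : ∀ y ∈ D.negUnipotent F, v * y * v⁻¹ ∈ D.negUnipotent F := by
    intro y hy
    have hc := (Subgroup.mem_normalizer_iff.1
      (diagonal_le_normalizer_neg hF (Subgroup.inv_mem _ (torusHom_mem hF c))) y).1 hy
    have := hV _ hc
    rwa [show v * torusHom c * ((torusHom c)⁻¹ * y * ((torusHom c)⁻¹)⁻¹) * (v * torusHom c)⁻¹ =
      v * y * v⁻¹ by group] at this
  have hB : (n : GL D.Idx F)⁻¹ * v * (n : GL D.Idx F) ∈ D.borelSubgroup F := by
    refine mem_borel_of_normalizes hF (Subgroup.mul_mem _ (Subgroup.mul_mem _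
      (Subgroup.inv_mem _ n.2) (posUnipotent_le_group hF hv)) n.2) fun y hy => ?_
    rw [show (n : GL D.Idx F)⁻¹ * v * n * y * ((n : GL D.Idx F)⁻¹ * v * n)⁻¹ =
      (n : GL D.Idx F)⁻¹ * (v * (n * y * (n : GL D.Idx F)⁻¹) * v⁻¹) * n by group]
    exact hVn _ (hvV _ (hnU y hy))
  obtain ⟨u, hu, c', e⟩ := (mem_borel_iff hF).1 hB
  have h1 : v ∈ D.borelSubgroup F ⊓ (D.negUnipotent F ⊔ D.diagonalSubgroup F) := by
    refine ⟨Subgroup.mem_sup_left hv, ?_⟩
    rw [show v = (n * u * (n : GL D.Idx F)⁻¹) * (n * torusHom c' * (n : GL D.Idx F)⁻¹) by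
      rw [show (n : GL D.Idx F) * u * (n : GL D.Idx F)⁻¹ *
        (n * torusHom c' * (n : GL D.Idx F)⁻¹) = n * (u * torusHom c') * (n : GL D.Idx F)⁻¹ by
          group, ← e]
      group]
    exact Subgroup.mul_mem _ (Subgroup.mem_sup_left (hnU u hu))
      (Subgroup.mem_sup_right (mon_conj_torus hF hn (torusHom_mem hF c')))
  rw [borel_inf_negBorel hF] at h1
  have : v ∈ D.posUnipotent F ⊓ D.diagonalSubgroup F := ⟨hv, h1⟩
  rw [posUnipotent_inf_diagonal hF, Subgroup.mem_bot] at this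
  exact ⟨c, by rw [this, one_mul]⟩

/-- A graph class is trivial modulo diagonal and field classes only for the trivial symmetry. -/
theorem eq_one_of_mem_sup (hA : AutFacts.{u} D) [Finite F]
    (hD : D ∈ [chevG2, chevB2, chevD4, chevF4, chevE6, chevE7, chevE8])
    {π : Equiv.Perm (Fin D.rank)} {ρ : Equiv.Perm (Fin D.nroots)} {ε : Fin D.nroots → ℤ}
    (hG : GraphFacts D π ρ ε)
    (h : mkO D F (hG.groupAut hF) ∈ dbar hF hA ⊔ fbar hF) : π = 1 := by
  have hN := dbar_normal hF hA hD (F := F)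
  obtain ⟨_, ⟨d, hd, rfl⟩, _, ⟨f, hf, rfl⟩, e⟩ := Subgroup.mem_sup_of_normal_left.1 h
  obtain ⟨χ, hχ, rfl⟩ := exists_eq_diagAut hF hA (show D.IsDiagonalAut d from hd)
  obtain ⟨σ, rfl⟩ := hf
  rw [← map_mul, QuotientGroup.mk'_eq_mk'] at e
  obtain ⟨_, ⟨x, rfl⟩, e⟩ := e
  -- push the inner automorphism to the left
  set φ : MulAut ↥(D.group F) := diagAut hF hA hχ * fldHom hF σ with hφ
  have e' : ∀ y, (hG.groupAut hF y : GL D.Idx F) =
      (φ x : GL D.Idx F) * (φ y : GL D.Idx F) * (φ x : GL D.Idx F)⁻¹ := fun y => by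
    rw [← e]
    show ((φ (x * y * x⁻¹) : ↥(D.group F)) : GL D.Idx F) = _
    rw [map_mul, map_mul, map_inv]
    rfl
  have hφr : ∀ (r : ℕ) (t : F), r < D.nroots → φ (rX hF r t) = rX hF r ((χ r : F) * σ t) :=
    fun r t hr => by
      show diagAut hF hA hχ (fldHom hF σ (rX hF r t)) = _
      rw [fldHom_apply, fldAut_rX, diagAut_rX hF hA hχ hr]
  have hx : ∀ (r : Fin D.nroots) (t : F), ∃ t' : F,
      (φ x : GL D.Idx F) * xG hF r t * (φ x : GL D.Idx F)⁻¹ = xG hF (ρ r : ℕ) t' := by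
    intro r t
    obtain ⟨s, -, hs⟩ := hG.aut_x hF r (F := F)
    refine ⟨s * σ.symm (((χ r)⁻¹ : Fˣ) * t), ?_⟩
    have := e' (rX hF r (σ.symm (((χ r)⁻¹ : Fˣ) * t)))
    rw [hφr _ _ r.2, σ.apply_symm_apply, Units.mul_inv_cancel_left, hG.groupAut_val] at this
    rw [← hs]
    exact this.symm
  have hpres : (∀ y ∈ D.posUnipotent F,
      (φ x : GL D.Idx F) * y * (φ x : GL D.Idx F)⁻¹ ∈ D.posUnipotent F) ∧
      ∀ y ∈ D.negUnipotent F,
      (φ x : GL D.Idx F) * y * (φ x : GL D.Idx F)⁻¹ ∈ D.negUnipotent F := by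
    constructor
    · intro y hy
      refine (Subgroup.closure_le ((D.posUnipotent F).comap
        (MulAut.conj (φ x : GL D.Idx F)).toMonoidHom)).2 ?_ hy
      rintro z ⟨r, t, hr, ez⟩
      rw [show z = xG hF r t from Units.ext ez]
      obtain ⟨t', ht'⟩ := hx ⟨r, hr.1⟩ t
      show (φ x : GL D.Idx F) * xG hF r t * (φ x : GL D.Idx F)⁻¹ ∈ D.posUnipotent F
      rw [ht']
      exact mem_posUnipotent_of hF (ρ _).2
        ((hG.pos ⟨r, hr.1⟩).2 ((hF.posRoot_iff r hr.1).1 hr)) _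
    · intro y hy
      refine (Subgroup.closure_le ((D.negUnipotent F).comap
        (MulAut.conj (φ x : GL D.Idx F)).toMonoidHom)).2 ?_ hy
      rintro z ⟨r, t, hr, ez⟩
      rw [show z = xG hF r t from Units.ext ez]
      obtain ⟨t', ht'⟩ := hx ⟨r, hr.1⟩ t
      show (φ x : GL D.Idx F) * xG hF r t * (φ x : GL D.Idx F)⁻¹ ∈ D.negUnipotent F
      rw [ht']
      refine mem_negUnipotent_of hF (ρ _).2 (not_le.1 fun hle => ?_) _
      exact absurd ((hG.pos ⟨r, hr.1⟩).1 hle) (not_le.2 ((hF.negRoot_iff r hr.1).1 hr))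
  obtain ⟨c, hc⟩ := exists_torus_of_normalizes hF (φ x).2 hpres.1 hpres.2
  refine Equiv.ext fun i => ?_
  obtain ⟨t', ht'⟩ := hx (sRoot hF i) 1
  have h1 : torusHom c * xG hF (D.simple i) (1 : F) * (torusHom c)⁻¹ =
      xG hF (ρ (sRoot hF i) : ℕ) t' := by rw [← hc]; exact ht'
  rw [torusHom_conj hF c (hF.simple_lt i i.2), mul_inv_cancel_right, mul_one] at h1
  have := (eq_of_x_eq hF (hF.simple_lt i i.2) (Units.ne_zero _) (congrArg Units.val h1)).1
  rw [(hG.simple i (sRoot hF i) rfl).1] at this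
  exact (simple_inj hF this).symm

end Cfsg.Agent.ChevAut
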