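import Cfsg.Agent.ChevAut.Assemble
import Cfsg.Agent.Chev.Generation
import Cfsg.Agent.S2160
import Cfsg.Agent.AutPSL.Structure
import Cfsg.Prelude.Def_KGroupFacts

/-!
The groups of diagonal and of field automorphisms and the way all automorphisms act on them.
-/

set_option autoImplicit false
set_option maxHeartbeats 1000000

namespace Cfsg.Agent.ChevAut

open Cfsg.Lie Cfsg.Agent.Chev
open scoped MatrixGroups

universe u

variable {D : ChevalleyDatum} {F : Type u} [Field F]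

/-- The formula of a graph automorphism with symmetry `π`. -/
def GAct (φ : ↥(D.group F) ≃* ↥(D.group F)) (π : Equiv.Perm (Fin D.rank)) : Prop :=
  ∀ (g : ↥(D.group F)) (i : Fin D.rank) (t : F),
    (((g : GL D.Idx F) : Matrix D.Idx D.Idx F) = D.x F (D.simple i) t →
      ((φ g : GL D.Idx F) : Matrix D.Idx D.Idx F) =
        D.x F (D.simple (π i)) (t ^ D.graphExp (ringChar F) i (π i))) ∧
    (((g : GL D.Idx F) : Matrix D.Idx D.Idx F) = D.x F (D.neg (D.simple i)) t →
      ((φ g : GL D.Idx F) : Matrix D.Idx D.Idx F) =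
        D.x F (D.neg (D.simple (π i))) (t ^ D.graphExp (ringChar F) i (π i)))

theorem graphExp_bijective [Finite F] (i j : ℕ) :
    Function.Bijective fun t : F => t ^ D.graphExp (ringChar F) i j := by
  have : Fact (Nat.Prime (ringChar F)) := ⟨CharP.char_is_prime F (ringChar F)⟩
  rw [ChevalleyDatum.graphExp]
  split_ifs
  · exact Finite.injective_iff_bijective.1 (frobenius_inj F (ringChar F))
  · simp only [pow_one]; exact Function.bijective_id

variable (hF : Facts.{u} D)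
include hF

/-- Automorphisms agreeing on the fundamental root elements and their negatives are equal. -/
theorem aut_ext {φ ψ : ↥(D.group F) ≃* ↥(D.group F)}
    (hp : ∀ (i : Fin D.rank) (t : F), φ (rX hF (D.simple i) t) = ψ (rX hF (D.simple i) t))
    (hn : ∀ (i : Fin D.rank) (t : F),
      φ (rX hF (D.neg (D.simple i)) t) = ψ (rX hF (D.neg (D.simple i)) t)) : φ = ψ := by
  have key : ∀ x, x ∈ D.group F → ∀ hx : x ∈ D.group F, φ ⟨x, hx⟩ = ψ ⟨x, hx⟩ := by
    intro x hx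
    rw [group_eq_closure_simple hF] at hx
    induction hx using Subgroup.closure_induction with
    | mem x hx =>
      intro hxG
      obtain ⟨i, t, rfl | rfl⟩ := hx
      · exact hp i t
      · exact hn i t
    | one => intro h1; rw [show (⟨1, h1⟩ : ↥(D.group F)) = 1 from rfl, map_one, map_one]
    | mul a b ha hb iha ihb =>
      intro hab
      rw [← group_eq_closure_simple hF] at ha hb
      rw [show (⟨a * b, hab⟩ : ↥(D.group F)) = ⟨a, ha⟩ * ⟨b, hb⟩ from rfl, map_mul, map_mul,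
        iha ha, ihb hb]
    | inv a ha iha =>
      intro hai
      rw [← group_eq_closure_simple hF] at ha
      rw [show (⟨a⁻¹, hai⟩ : ↥(D.group F)) = (⟨a, ha⟩)⁻¹ from rfl, map_inv, map_inv, iha ha]
  exact MulEquiv.ext fun y => key y.1 y.2 y.2

theorem GAct.pos {φ : ↥(D.group F) ≃* ↥(D.group F)} {π : Equiv.Perm (Fin D.rank)}
    (h : GAct φ π) (i : Fin D.rank) (t : F) : φ (rX hF (D.simple i) t) =
      rX hF (D.simple (π i)) (t ^ D.graphExp (ringChar F) i (π i)) :=
  Subtype.ext (Units.ext ((h _ i t).1 rfl))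

theorem GAct.neg {φ : ↥(D.group F) ≃* ↥(D.group F)} {π : Equiv.Perm (Fin D.rank)}
    (h : GAct φ π) (i : Fin D.rank) (t : F) : φ (rX hF (D.neg (D.simple i)) t) =
      rX hF (D.neg (D.simple (π i))) (t ^ D.graphExp (ringChar F) i (π i)) :=
  Subtype.ext (Units.ext ((h _ i t).2 rfl))

theorem GAct.eq {φ ψ : ↥(D.group F) ≃* ↥(D.group F)} {π : Equiv.Perm (Fin D.rank)}
    (h : GAct φ π) (h' : GAct ψ π) : φ = ψ :=
  aut_ext hF (fun i t => by rw [h.pos hF, h'.pos hF]) fun i t => by rw [h.neg hF, h'.neg hF]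

/-- The field automorphisms, as a homomorphism. -/
noncomputable def fldHom : (F ≃+* F) →* MulAut ↥(D.group F) where
  toFun ρ := fldAut hF ρ
  map_one' := aut_ext hF
    (fun _ _ => Subtype.ext (Units.ext (fldAut_x hF (1 : F ≃+* F) rfl)))
    (fun _ _ => Subtype.ext (Units.ext (fldAut_x hF (1 : F ≃+* F) rfl)))
  map_mul' ρ ρ' := aut_ext hF
    (fun _ _ => Subtype.ext (Units.ext ((fldAut_x hF (ρ * ρ') rfl).trans
      (fldAut_x hF ρ (fldAut_x hF ρ' rfl)).symm)))
    (fun _ _ => Subtype.ext (Units.ext ((fldAut_x hF (ρ * ρ') rfl).trans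
      (fldAut_x hF ρ (fldAut_x hF ρ' rfl)).symm)))

theorem fldHom_apply (ρ : F ≃+* F) : fldHom hF ρ = fldAut hF ρ := rfl

theorem fldAut_rX (ρ : F ≃+* F) (r : ℕ) (t : F) :
    fldAut hF ρ (rX hF r t) = rX hF r (ρ t) := Subtype.ext (Units.ext (fldAut_x hF ρ rfl))

theorem isFieldAut_iff {φ : ↥(D.group F) ≃* ↥(D.group F)} :
    D.IsFieldAut φ ↔ φ ∈ (fldHom hF (F := F)).range := by
  constructor
  · rintro ⟨σ, hσ⟩
    refine ⟨σ, (aut_ext hF (fun i t => ?_) (fun i t => ?_)).symm⟩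
    · rw [fldHom_apply, fldAut_rX]
      exact Subtype.ext (Units.ext (hσ _ _ t (hF.simple_lt i i.2) rfl))
    · rw [fldHom_apply, fldAut_rX]
      exact Subtype.ext (Units.ext (hσ _ _ t (neg_lt hF (hF.simple_lt i i.2)) rfl))
  · rintro ⟨ρ, rfl⟩
    exact isFieldAut_fldAut hF ρ

theorem closure_field :
    Subgroup.closure {φ : MulAut ↥(D.group F) | D.IsFieldAut φ} = (fldHom hF (F := F)).range :=
  le_antisymm ((Subgroup.closure_le _).2 fun _ hφ => (isFieldAut_iff hF).1 hφ)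
    fun _ hφ => Subgroup.subset_closure ((isFieldAut_iff hF).2 hφ)

variable (hA : AutFacts.{u} D)
include hA

theorem diagAut_rX {χ : ℕ → Fˣ} (hχ : D.IsRootCharacter χ) {r : ℕ} (hr : r < D.nroots) (t : F) :
    diagAut hF hA hχ (rX hF r t) = rX hF r ((χ r : F) * t) :=
  Subtype.ext (Units.ext (diagAut_x hF hA hχ hr rfl))

theorem exists_eq_diagAut {φ : ↥(D.group F) ≃* ↥(D.group F)} (h : D.IsDiagonalAut φ) :
    ∃ (χ : ℕ → Fˣ) (hχ : D.IsRootCharacter χ), φ = diagAut hF hA hχ := by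
  obtain ⟨χ, hχ, e⟩ := h
  exact ⟨χ, hχ, MulEquiv.ext fun g => Subtype.ext (Units.ext (e g))⟩

/-- Equality with a diagonal automorphism from the values on the fundamental roots. -/
theorem eq_diagAut {φ : ↥(D.group F) ≃* ↥(D.group F)} {χ : ℕ → Fˣ} (hχ : D.IsRootCharacter χ)
    (hp : ∀ (i : Fin D.rank) (t : F), φ (rX hF (D.simple i) t) =
      rX hF (D.simple i) ((χ (D.simple i) : F) * t))
    (hn : ∀ (i : Fin D.rank) (t : F), φ (rX hF (D.neg (D.simple i)) t) =
      rX hF (D.neg (D.simple i)) (((χ (D.simple i))⁻¹ : Fˣ) * t)) : φ = diagAut hF hA hχ :=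
  aut_ext hF (fun i t => by rw [hp, diagAut_rX hF hA hχ (hF.simple_lt i i.2)]) fun i t => by
    rw [hn, diagAut_rX hF hA hχ (neg_lt hF (hF.simple_lt i i.2)), hχ.1 _ (hF.simple_lt i i.2)]

theorem IsDiagonalAut.mul {φ ψ : MulAut ↥(D.group F)} (h : D.IsDiagonalAut φ)
    (h' : D.IsDiagonalAut ψ) : D.IsDiagonalAut (φ * ψ) ∧ φ * ψ = ψ * φ := by
  obtain ⟨χ, hχ, rfl⟩ := exists_eq_diagAut hF hA h
  obtain ⟨χ', hχ', rfl⟩ := exists_eq_diagAut hF hA h'
  refine ⟨⟨fun r => χ r * χ' r, ⟨fun r hr => ?_, fun r s k hr hs e => ?_⟩, fun g => ?_⟩, ?_⟩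
  · simp [hχ.1 r hr, hχ'.1 r hr, mul_comm]
  · simp [hχ.2 r s k hr hs e, hχ'.2 r s k hr hs e, mul_mul_mul_comm]
  · show (((diagAut hF hA hχ (diagAut hF hA hχ' g) : ↥(D.group F)) : GL D.Idx F) :
      Matrix D.Idx D.Idx F) = _
    rw [diagAut_val, diagAut_val, show charU χ * (charU χ' * (g : GL D.Idx F) * (charU χ')⁻¹) *
      (charU χ)⁻¹ = (charU χ * charU χ') * (g : GL D.Idx F) * (charU χ * charU χ')⁻¹ by group,
      charU_mul]
    rfl
  · refine MulEquiv.ext fun g => Subtype.ext ?_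
    show ((diagAut hF hA hχ (diagAut hF hA hχ' g) : ↥(D.group F)) : GL D.Idx F) =
      (diagAut hF hA hχ' (diagAut hF hA hχ g) : ↥(D.group F))
    have e : charU (D := D) χ * charU χ' = charU χ' * charU χ := by
      rw [charU_mul, charU_mul]; congr 1; funext r; exact mul_comm _ _
    rw [diagAut_val, diagAut_val, diagAut_val, diagAut_val]
    calc charU χ * (charU χ' * (g : GL D.Idx F) * (charU χ')⁻¹) * (charU χ)⁻¹
        = (charU χ * charU χ') * (g : GL D.Idx F) * (charU χ * charU χ')⁻¹ := by group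
      _ = _ := by rw [e]; group

/-- The group of diagonal automorphisms. -/
def diagSub : Subgroup (MulAut ↥(D.group F)) where
  carrier := {φ | D.IsDiagonalAut φ}
  one_mem' := ⟨fun _ => 1, ⟨fun _ _ => inv_one.symm, fun _ _ _ _ _ _ => (one_mul 1).symm⟩,
    fun g => by simp [charDiag_one]⟩
  mul_mem' := fun h h' => (IsDiagonalAut.mul hF hA h h').1
  inv_mem' := by
    intro φ h
    obtain ⟨χ, hχ, rfl⟩ := exists_eq_diagAut hF hA h
    refine ⟨fun r => (χ r)⁻¹, IsRootCharacter.inv hχ, fun g => ?_⟩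
    have e := diagAut_val hF hA hχ ((diagAut hF hA hχ).symm g)
    rw [MulEquiv.apply_symm_apply] at e
    show ((((diagAut hF hA hχ).symm g : ↥(D.group F)) : GL D.Idx F) : Matrix D.Idx D.Idx F) = _
    rw [show (((diagAut hF hA hχ).symm g : ↥(D.group F)) : GL D.Idx F) =
      (charU χ)⁻¹ * (g : GL D.Idx F) * charU χ by rw [e]; group]
    rfl

theorem mem_diagSub {φ : MulAut ↥(D.group F)} : φ ∈ diagSub hF hA ↔ D.IsDiagonalAut φ := Iff.rfl

theorem closure_diagonal :
    Subgroup.closure {φ : MulAut ↥(D.group F) | D.IsDiagonalAut φ} = diagSub hF hA :=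
  Subgroup.closure_eq (diagSub hF hA (F := F))

theorem field_conj_diagonal {f d : MulAut ↥(D.group F)} (hf : D.IsFieldAut f)
    (hd : D.IsDiagonalAut d) : D.IsDiagonalAut (f * d * f⁻¹) := by
  obtain ⟨ρ, rfl⟩ := (isFieldAut_iff hF).1 hf
  obtain ⟨χ, hχ, rfl⟩ := exists_eq_diagAut hF hA hd
  have hχ' : D.IsRootCharacter fun r => Units.map ρ.toMonoidHom (χ r) :=
    ⟨fun r hr => by simp [hχ.1 r hr], fun r s k hr hs e => by simp [hχ.2 r s k hr hs e]⟩
  suffices h : fldHom hF ρ * diagAut hF hA hχ * (fldHom hF ρ)⁻¹ = diagAut hF hA hχ' by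
    rw [h]; exact isDiagonalAut_diagAut hF hA hχ'
  have e : ∀ (r : ℕ) (t : F), r < D.nroots →
      fldAut hF ρ (diagAut hF hA hχ (fldAut hF ρ.symm (rX hF r t))) =
        rX hF r (ρ (χ r : F) * t) := fun r t hr => by
    rw [fldAut_rX, diagAut_rX hF hA hχ hr, fldAut_rX, map_mul, ρ.apply_symm_apply]
  rw [← map_inv]
  refine eq_diagAut hF hA hχ' (fun i t => e _ t (hF.simple_lt i i.2)) fun i t => ?_
  refine (e _ t (neg_lt hF (hF.simple_lt i i.2))).trans ?_
  rw [hχ.1 _ (hF.simple_lt i i.2)]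
  simp

theorem graph_conj_diagonal [Finite F] {g d : MulAut ↥(D.group F)} (hg : D.IsGraphAut g)
    (hd : D.IsDiagonalAut d) : D.IsDiagonalAut (g * d * g⁻¹) := by
  obtain ⟨π, -, hπ⟩ := hg
  change GAct g π at hπ
  obtain ⟨χ, hχ, rfl⟩ := exists_eq_diagAut hF hA hd
  obtain ⟨χ', hχ', hval⟩ := hA.char F fun k =>
    χ (D.simple (π.symm k)) ^ D.graphExp (ringChar F) (π.symm k : Fin D.rank) k
  suffices h : g * diagAut hF hA hχ * g⁻¹ = diagAut hF hA hχ' by
    rw [h]; exact isDiagonalAut_diagAut hF hA hχ'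
  refine eq_diagAut hF hA hχ' (fun k t => ?_) fun k t => ?_
  all_goals
    obtain ⟨i, rfl⟩ := π.surjective k
    obtain ⟨a, rfl⟩ := (graphExp_bijective (D := D) (F := F) (i : ℕ) (π i : ℕ)).2 t
    show g (diagAut hF hA hχ (g.symm _)) = _
  · rw [← hπ.pos hF, MulEquiv.symm_apply_apply, diagAut_rX hF hA hχ (hF.simple_lt i i.2),
      hπ.pos hF, hval, Equiv.symm_apply_apply, Units.val_pow_eq_pow_val, mul_pow]
  · rw [← hπ.neg hF, MulEquiv.symm_apply_apply,
      diagAut_rX hF hA hχ (neg_lt hF (hF.simple_lt i i.2)), hπ.neg hF,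
      hχ.1 _ (hF.simple_lt i i.2), hval, Equiv.symm_apply_apply, mul_pow]
    simp

end Cfsg.Agent.ChevAut
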