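import Cfsg.Agent.Chev.MinCoset
import Cfsg.Agent.Chev.SteinbergCells

/-!
An automorphism of a Chevalley group can be adjusted by an inner one to fix `U` and `U⁻`.
-/

set_option autoImplicit false
set_option maxHeartbeats 1000000

namespace Cfsg.Agent.ChevAut

open Cfsg.Lie Cfsg.Agent.Chev
open scoped MatrixGroups Pointwise

universe u

variable (D : ChevalleyDatum) (F : Type u) [Field F]

/-- `U` inside the group. -/
abbrev uG : Subgroup ↥(D.group F) := (D.posUnipotent F).subgroupOf (D.group F)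

/-- `U⁻` inside the group. -/
abbrev vG : Subgroup ↥(D.group F) := (D.negUnipotent F).subgroupOf (D.group F)

variable {D} {F} (hF : Facts.{u} D)

/-- An automorphism fixing `U` and `U⁻`. -/
def Normalised (θ : ↥(D.group F) ≃* ↥(D.group F)) : Prop :=
  (uG D F).map θ.toMonoidHom = uG D F ∧ (vG D F).map θ.toMonoidHom = vG D F

include hF

theorem posUnipotent_le_group : D.posUnipotent F ≤ D.group F :=
  le_sup_left.trans (borel_le_group hF)

theorem negUnipotent_le_group : D.negUnipotent F ≤ D.group F := by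
  refine (Subgroup.closure_le _).2 ?_
  rintro g ⟨r, t, hr, e⟩
  rw [show g = xG hF r t from Units.ext e]
  exact xG_mem_group hF r t

theorem borel_normalizes {b x : GL D.Idx F} (hb : b ∈ D.borelSubgroup F)
    (hx : x ∈ D.posUnipotent F) : b * x * b⁻¹ ∈ D.posUnipotent F := by
  obtain ⟨v, hv, c, rfl⟩ := (mem_borel_iff hF).1 hb
  rw [show v * torusHom c * x * (v * torusHom c)⁻¹ =
    v * (torusHom c * x * (torusHom c)⁻¹) * v⁻¹ by group]
  exact Subgroup.mul_mem _ (Subgroup.mul_mem _ hv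
    ((Subgroup.mem_normalizer_iff.1 (torusHom_mem_normalizer hF c) x).1 hx))
    (Subgroup.inv_mem _ hv)

theorem negUnipotent_disjoint {x : GL D.Idx F} (h1 : x ∈ D.borelSubgroup F)
    (h2 : x ∈ D.negUnipotent F) : x = 1 :=
  Subgroup.mem_bot.1 ((borel_inf_negUnipotent hF (F := F)).le ⟨h1, h2⟩)

/-- `B` is the normaliser of `U`. -/
theorem mem_borel_of_normalizes {g : GL D.Idx F} (hg : g ∈ D.group F)
    (h : ∀ x ∈ D.posUnipotent F, g * x * g⁻¹ ∈ D.posUnipotent F) : g ∈ D.borelSubgroup F := by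
  obtain ⟨b, hb, w, x, hx, e⟩ := exists_normalForm hF hg
  have hxU := uMinus_le_posU hF _ hx
  have hn : ∀ u ∈ D.posUnipotent F, nWord hF w * u * (nWord hF w)⁻¹ ∈ D.borelSubgroup F := by
    intro u hu
    have h1 := h (x⁻¹ * u * x) (Subgroup.mul_mem _ (Subgroup.mul_mem _
      (Subgroup.inv_mem _ hxU) hu) hxU)
    rw [show nWord hF w * u * (nWord hF w)⁻¹ = b⁻¹ * (g * (x⁻¹ * u * x) * g⁻¹) * b by rw [e]; group]
    exact Subgroup.mul_mem _ (Subgroup.mul_mem _ (Subgroup.inv_mem _ hb)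
      (Subgroup.mem_sup_left h1)) hb
  have hone : pWord hF w = 1 := eq_one_of_pos hF (pWord_mem hF w) fun i => by
    by_contra hneg
    obtain ⟨c, hc, hconj⟩ := isMon_nWord hF w (F := F) (sRoot hF i)
    have h1 := hn _ (mem_posUnipotent_of hF (hF.simple_lt i i.2) (hF.simple_pos i i.2) (1 : F))
    have h2 : nWord hF w * xG hF (D.simple i) (1 : F) * (nWord hF w)⁻¹ =
        xG hF (pWord hF w (sRoot hF i) : ℕ) c := by
      rw [show D.simple i = ((sRoot hF i : Fin D.nroots) : ℕ) from rfl, hconj, mul_inv_cancel_right,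
        mul_one]
    rw [h2] at h1
    exact hc ((xG_eq_one_iff hF (pWord hF w (sRoot hF i)).2).1 (negUnipotent_disjoint hF h1
      (mem_negUnipotent_of hF (pWord hF w (sRoot hF i)).2 (not_le.1 hneg) c)))
  rw [e]
  exact Subgroup.mul_mem _ (Subgroup.mul_mem _ hb
    (Subgroup.mem_sup_right (nWord_mem_diagonal hF w hone))) (Subgroup.mem_sup_left hxU)

/-- A conjugate of `U` meeting `U` trivially is a `B`-conjugate of `U⁻`. -/
theorem exists_opposite {g : GL D.Idx F} (hg : g ∈ D.group F)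
    (h : ∀ x ∈ D.posUnipotent F, g * x * g⁻¹ ∈ D.posUnipotent F → x = 1) :
    ∃ b ∈ D.borelSubgroup F, ∀ x ∈ D.posUnipotent F, b⁻¹ * (g * x * g⁻¹) * b ∈ D.negUnipotent F := by
  obtain ⟨b, hb, w, y, hy, e⟩ := exists_normalForm hF hg
  have hyU := uMinus_le_posU hF _ hy
  have hneg : ∀ r : Fin D.nroots, half D ≤ (r : ℕ) → (pWord hF w r : ℕ) < half D := by
    intro r hr
    by_contra hpos
    obtain ⟨c, hc, hconj⟩ := isMon_nWord hF w (F := F) r
    set u := xG hF (r : ℕ) (1 : F)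
    have hu : u ∈ D.posUnipotent F := mem_posUnipotent_of hF r.2 hr 1
    have h1 : g * (y⁻¹ * u * y) * g⁻¹ ∈ D.posUnipotent F := by
      rw [show g * (y⁻¹ * u * y) * g⁻¹ = b * (nWord hF w * u * (nWord hF w)⁻¹) * b⁻¹ by
        rw [e]; group, hconj, mul_inv_cancel_right]
      exact borel_normalizes hF hb (mem_posUnipotent_of hF (pWord hF w r).2 (not_lt.1 hpos) _)
    have h2 := h _ (Subgroup.mul_mem _ (Subgroup.mul_mem _ (Subgroup.inv_mem _ hyU) hu) hyU) h1
    have h3 : u = 1 := by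
      calc u = y * (y⁻¹ * u * y) * y⁻¹ := by group
        _ = 1 := by rw [h2]; group
    exact one_ne_zero ((xG_eq_one_iff hF r.2).1 h3)
  refine ⟨b, hb, fun x hx => ?_⟩
  rw [show b⁻¹ * (g * x * g⁻¹) * b = nWord hF w * (y * x * y⁻¹) * (nWord hF w)⁻¹ by rw [e]; group]
  refine conj_uMinus hF (isMon_nWord hF w) ?_
  have hall : D.posUnipotent F ≤ uMinus hF (pWord hF w) := by
    refine (Subgroup.closure_le _).2 ?_
    rintro _ ⟨r, t, hr, e'⟩
    refine Subgroup.subset_closure ⟨⟨r, hr.1⟩, t, (hF.posRoot_iff r hr.1).1 hr, ?_, Units.ext e'⟩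
    exact hneg ⟨r, hr.1⟩ ((hF.posRoot_iff r hr.1).1 hr)
  exact hall (Subgroup.mul_mem _ (Subgroup.mul_mem _ hyU hx) (Subgroup.inv_mem _ hyU))

theorem exists_longest_conj : ∃ c : ↥(D.group F),
    (c : GL D.Idx F) ∈ D.monomialSubgroup F ∧ (uG D F).map (MulAut.conj c).toMonoidHom = vG D F := by
  obtain ⟨n, hn, hmap⟩ := map_posUnipotent_longest hF (F := F)
  refine ⟨⟨n, monomial_le_group hF hn⟩, hn, Subgroup.ext fun x => ?_⟩
  rw [Subgroup.mem_map_equiv, Subgroup.mem_subgroupOf, Subgroup.mem_subgroupOf, ← hmap,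
    Subgroup.mem_map_equiv]
  simp [MulAut.conj_symm_apply]

/-- Every automorphism is an inner one followed by a normalised one. -/
theorem exists_normalised [Finite F] (p : ℕ) [Fact p.Prime] (P : Sylow p ↥(D.group F))
    (hP : (P : Subgroup ↥(D.group F)) = uG D F) (θ : ↥(D.group F) ≃* ↥(D.group F)) :
    ∃ (x : ↥(D.group F)) (θ' : ↥(D.group F) ≃* ↥(D.group F)),
      (∀ y, θ y = x * θ' y * x⁻¹) ∧ Normalised θ' := by
  -- fix `U`
  obtain ⟨x, hx⟩ := MulAction.exists_smul_eq ↥(D.group F) P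
    (P.mapSurjective (f := θ.toMonoidHom) θ.surjective)
  have hxU : (uG D F).map θ.toMonoidHom = (uG D F).map (MulAut.conj x).toMonoidHom := by
    have := congrArg (fun Q : Sylow p ↥(D.group F) => (Q : Subgroup ↥(D.group F))) hx
    simp only [Sylow.coe_subgroup_smul, hP] at this
    rw [show (uG D F).map θ.toMonoidHom =
      ((P.mapSurjective (f := θ.toMonoidHom) θ.surjective : Sylow p ↥(D.group F)) :
        Subgroup ↥(D.group F)) by rw [← hP]; rfl, ← this]
    rfl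
  set θ₁ : ↥(D.group F) ≃* ↥(D.group F) := θ.trans (MulAut.conj x⁻¹) with hθ₁
  have h1 : (uG D F).map θ₁.toMonoidHom = uG D F := by
    rw [show θ₁.toMonoidHom = (MulAut.conj x⁻¹).toMonoidHom.comp θ.toMonoidHom from rfl,
      ← Subgroup.map_map, hxU, Subgroup.map_map]
    convert Subgroup.map_id (uG D F)
    ext y
    simp [mul_assoc]
  -- fix `U⁻`
  obtain ⟨c, -, hc⟩ := exists_longest_conj hF (F := F)
  have hmem : ∀ u ∈ uG D F, θ₁ (c * u * c⁻¹) = θ₁ c * θ₁ u * (θ₁ c)⁻¹ := fun u _ => by simp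
  have himg : ∀ u ∈ uG D F, ∃ u' ∈ uG D F, θ₁ u' = u := fun u hu => by
    rw [← h1] at hu
    obtain ⟨u', hu', rfl⟩ := hu
    exact ⟨u', hu', rfl⟩
  obtain ⟨b, hb, hbV⟩ := exists_opposite hF (g := (θ₁ c : GL D.Idx F)) (θ₁ c).2
    fun z hz hz' => by
      set zz : ↥(D.group F) := ⟨z, posUnipotent_le_group hF hz⟩
      obtain ⟨u', hu', e⟩ := himg zz hz
      obtain ⟨u'', hu'', e''⟩ := himg (θ₁ c * zz * (θ₁ c)⁻¹) hz'
      rw [← e, ← hmem u' hu'] at e''
      have h3 : u'' = c * u' * c⁻¹ := θ₁.injective e''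
      have h4 : c * u' * c⁻¹ ∈ vG D F := hc ▸ ⟨u', hu', rfl⟩
      rw [← h3] at h4
      have h5 : u'' = 1 :=
        Subtype.ext (negUnipotent_disjoint hF (Subgroup.mem_sup_left hu'') h4)
      rw [h5, eq_comm, mul_inv_eq_one, mul_eq_left] at h3
      rw [h3, map_one] at e
      exact congrArg Subtype.val e.symm
  set bb : ↥(D.group F) := ⟨b, borel_le_group hF hb⟩ with hbb
  set θ₂ : ↥(D.group F) ≃* ↥(D.group F) := θ₁.trans (MulAut.conj bb⁻¹) with hθ₂
  have happ : ∀ y, θ₂ y = bb⁻¹ * θ₁ y * bb := fun y => by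
    simp [θ₂, MulAut.conj_apply]
  have hle : (uG D F).map θ₂.toMonoidHom ≤ uG D F := by
    rintro _ ⟨u, hu, rfl⟩
    show θ₂ u ∈ uG D F
    have := borel_normalizes hF (Subgroup.inv_mem _ hb) (x := (θ₁ u : GL D.Idx F))
      (h1.le ⟨u, hu, rfl⟩)
    rw [inv_inv] at this
    rw [Subgroup.mem_subgroupOf, happ]
    exact this
  have hle' : (vG D F).map θ₂.toMonoidHom ≤ vG D F := by
    rintro _ ⟨v, hv, rfl⟩
    obtain ⟨u, hu, rfl⟩ := hc.symm.le hv
    show θ₂ (c * u * c⁻¹) ∈ vG D F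
    rw [Subgroup.mem_subgroupOf, happ, hmem u hu]
    exact hbV _ (h1.le ⟨u, hu, rfl⟩)
  have : Finite ↥(D.group F) := inferInstance
  refine ⟨x * bb, θ₂, fun y => ?_, ?_, ?_⟩
  · rw [happ, show θ₁ y = x⁻¹ * θ y * x by simp [θ₁, MulAut.conj_apply]]
    group
  · exact Subgroup.eq_of_le_of_card_ge hle
      (Nat.card_congr ((uG D F).equivMapOfInjective _ θ₂.injective).toEquiv).le
  · exact Subgroup.eq_of_le_of_card_ge hle'
      (Nat.card_congr ((vG D F).equivMapOfInjective _ θ₂.injective).toEquiv).le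

end Cfsg.Agent.ChevAut
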