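import Cfsg.Agent.ChevAut.GraphClass
import Cfsg.Agent.Chev.TorusCard

/-!
The orders of the groups of diagonal and field classes.
-/

set_option autoImplicit false
set_option maxHeartbeats 1000000

namespace Cfsg.Agent.ChevAut

open Cfsg Cfsg.Lie Cfsg.Agent.Chev
open scoped MatrixGroups

universe u

variable {D : ChevalleyDatum} {F : Type u} [Field F] (hF : Facts.{u} D) (hA : AutFacts.{u} D)

/-- An automorphism permuting the root subgroups, keeping positive roots positive. -/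
def RootAct (g : ↥(D.group F) ≃* ↥(D.group F)) (ρ : Equiv.Perm (Fin D.nroots)) : Prop :=
  (∀ r : Fin D.nroots, half D ≤ (ρ r : ℕ) ↔ half D ≤ (r : ℕ)) ∧
    ∀ (r : Fin D.nroots) (t : F) (x : ↥(D.group F)),
      (x : GL D.Idx F).val = D.x F r t → ∃ t' : F, (g x : GL D.Idx F).val = D.x F (ρ r) t'

include hF hA

/-- An automorphism of that kind in the class of a diagonal and a field one scales every root
subgroup by a torus element. -/
theorem root_core {g : MulAut ↥(D.group F)} {ρ : Equiv.Perm (Fin D.nroots)} (hg : RootAct g ρ)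
    {χ : ℕ → Fˣ} (hχ : D.IsRootCharacter χ) {σ : F ≃+* F} {x : ↥(D.group F)}
    (e : g = diagAut hF hA hχ * fldHom hF σ * MulAut.conj x) :
    ∃ c : Fin D.rank → Fˣ, ∀ (r : Fin D.nroots) (t : F),
      (g (rX hF r t) : GL D.Idx F) =
        xG hF r ((chiU c r : F) * ((χ r : F) * σ t)) := by
  set φ : MulAut ↥(D.group F) := diagAut hF hA hχ * fldHom hF σ with hφ
  have e' : ∀ y, (g y : GL D.Idx F) =
      (φ x : GL D.Idx F) * (φ y : GL D.Idx F) * (φ x : GL D.Idx F)⁻¹ := fun y => by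
    rw [e]
    show ((φ (x * y * x⁻¹) : ↥(D.group F)) : GL D.Idx F) = _
    rw [map_mul, map_mul, map_inv]
    rfl
  have hφr : ∀ (r : ℕ) (t : F), r < D.nroots → φ (rX hF r t) = rX hF r ((χ r : F) * σ t) :=
    fun r t hr => by
      show diagAut hF hA hχ (fldHom hF σ (rX hF r t)) = _
      rw [fldHom_apply, fldAut_rX, diagAut_rX hF hA hχ hr]
  have hx : ∀ (r : Fin D.nroots) (t : F), ∃ t' : F,
      (φ x : GL D.Idx F) * xG hF r t * (φ x : GL D.Idx F)⁻¹ = xG hF (ρ r : ℕ) t' := by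
    intro r t
    obtain ⟨t', ht'⟩ := hg.2 r _ (rX hF r (σ.symm (((χ r)⁻¹ : Fˣ) * t))) rfl
    refine ⟨t', ?_⟩
    have := e' (rX hF r (σ.symm (((χ r)⁻¹ : Fˣ) * t)))
    rw [hφr _ _ r.2, σ.apply_symm_apply, Units.mul_inv_cancel_left] at this
    exact this.symm.trans (Units.ext ht')
  have hU : ∀ y ∈ D.posUnipotent F,
      (φ x : GL D.Idx F) * y * (φ x : GL D.Idx F)⁻¹ ∈ D.posUnipotent F := by
    intro y hy
    refine (Subgroup.closure_le ((D.posUnipotent F).comap
      (MulAut.conj (φ x : GL D.Idx F)).toMonoidHom)).2 ?_ hy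
    rintro z ⟨r, t, hr, ez⟩
    rw [show z = xG hF r t from Units.ext ez]
    obtain ⟨t', ht'⟩ := hx ⟨r, hr.1⟩ t
    show (φ x : GL D.Idx F) * xG hF r t * (φ x : GL D.Idx F)⁻¹ ∈ D.posUnipotent F
    rw [ht']
    exact mem_posUnipotent_of hF (ρ _).2
      ((hg.1 ⟨r, hr.1⟩).2 ((hF.posRoot_iff r hr.1).1 hr)) _
  have hV : ∀ y ∈ D.negUnipotent F,
      (φ x : GL D.Idx F) * y * (φ x : GL D.Idx F)⁻¹ ∈ D.negUnipotent F := by
    intro y hy
    refine (Subgroup.closure_le ((D.negUnipotent F).comap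
      (MulAut.conj (φ x : GL D.Idx F)).toMonoidHom)).2 ?_ hy
    rintro z ⟨r, t, hr, ez⟩
    rw [show z = xG hF r t from Units.ext ez]
    obtain ⟨t', ht'⟩ := hx ⟨r, hr.1⟩ t
    show (φ x : GL D.Idx F) * xG hF r t * (φ x : GL D.Idx F)⁻¹ ∈ D.negUnipotent F
    rw [ht']
    refine mem_negUnipotent_of hF (ρ _).2 (not_le.1 fun hle => ?_) _
    exact absurd ((hg.1 ⟨r, hr.1⟩).1 hle) (not_le.2 ((hF.negRoot_iff r hr.1).1 hr))
  obtain ⟨c, hc⟩ := exists_torus_of_normalizes hF (φ x).2 hU hV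
  refine ⟨c, fun r t => ?_⟩
  rw [e', hc, hφr _ _ r.2]
  show torusHom c * xG hF r _ * (torusHom c)⁻¹ = _
  rw [torusHom_conj hF c r.2, mul_inv_cancel_right]

theorem rootAct_field (σ : F ≃+* F) : RootAct (fldAut hF σ) 1 :=
  ⟨fun _ => Iff.rfl, fun _ t _ hx => ⟨σ t, fldAut_x hF σ hx⟩⟩

theorem rootAct_diag {χ : ℕ → Fˣ} (hχ : D.IsRootCharacter χ) :
    RootAct (diagAut hF hA hχ) 1 :=
  ⟨fun _ => Iff.rfl, fun r t _ hx => ⟨_, diagAut_x hF hA hχ r.2 hx⟩⟩

omit hA in
/-- A graph class is outside the diagonal and field classes when it moves a node. -/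
theorem node_fixed_of_mem_sup [Finite F]
    (hD : D ∈ [chevG2, chevB2, chevD4, chevF4, chevE6, chevE7, chevE8])
    {g : MulAut ↥(D.group F)} {π : Equiv.Perm (Fin D.rank)} {ρ : Equiv.Perm (Fin D.nroots)}
    (hg : RootAct g ρ) (hπ : GAct g π)
    (h : mkO D F g ∈ dbar hF (autFacts_of_mem hD) ⊔ fbar hF) : π = 1 := by
  set hA := autFacts_of_mem.{u} hD
  have hN := dbar_normal hF hA hD (F := F)
  obtain ⟨_, ⟨d, hd, rfl⟩, _, ⟨f, ⟨σ, rfl⟩, rfl⟩, e⟩ := Subgroup.mem_sup_of_normal_left.1 h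
  obtain ⟨χ, hχ, rfl⟩ := exists_eq_diagAut hF hA (show D.IsDiagonalAut d from hd)
  rw [← map_mul, QuotientGroup.mk'_eq_mk'] at e
  obtain ⟨_, ⟨x, rfl⟩, e⟩ := e
  obtain ⟨c, hc⟩ := root_core hF hA hg hχ e.symm
  refine Equiv.ext fun i => ?_
  have h1 := hc (sRoot hF i) 1
  rw [show rX hF ((sRoot hF i : Fin D.nroots) : ℕ) (1 : F) = rX hF (D.simple i) 1 from rfl,
    hπ.pos hF, one_pow, map_one, mul_one] at h1
  exact simple_inj hF (eq_of_x_eq hF (hF.simple_lt _ (π i).2) one_ne_zero (congrArg Units.val h1)).1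

omit hA in
/-- The torus parameters of an element of the torus at the fundamental roots. -/
noncomputable def tauHom : (Fin D.rank → Fˣ) →* (Fin D.rank → Fˣ) where
  toFun c i := chiU c (D.simple i)
  map_one' := funext fun i => by simp [chiU]
  map_mul' a b := funext fun i => by simp [chiU, mul_zpow, Finset.prod_mul_distrib]

omit hA in
theorem index_tauHom [Fintype F] {N : ℕ}
    (hN : N * Nat.card ↥(D.diagonalSubgroup F) = (Fintype.card F - 1) ^ D.rank) :
    (tauHom (D := D) (F := F)).range.index = N := by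
  classical
  have hker : (tauHom (D := D) (F := F)).ker = (torusHom : (Fin D.rank → Fˣ) →* GL D.Idx F).ker := by
    ext c
    rw [mem_torusHom_ker hF, MonoidHom.mem_ker]
    rfl
  have hr : Nat.card ↥(tauHom (D := D) (F := F)).range = Nat.card ↥(D.diagonalSubgroup F) := by
    rw [diagonal_eq_range hF, ← Subgroup.index_ker, ← Subgroup.index_ker, hker]
  have hci := Subgroup.card_mul_index (tauHom (D := D) (F := F)).range
  rw [hr, Nat.card_fun, Nat.card_fin, Nat.card_units, Nat.card_eq_fintype_card (α := F), ← hN,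
    mul_comm N] at hci
  exact Nat.eq_of_mul_eq_mul_left Nat.card_pos hci

/-- A diagonal automorphism with given values on the fundamental roots. -/
noncomputable def diagOf (c : Fin D.rank → Fˣ) : MulAut ↥(D.group F) :=
  diagAut hF hA (hA.char F c).choose_spec.1

theorem diagOf_spec (c : Fin D.rank → Fˣ) {χ : ℕ → Fˣ} (hχ : D.IsRootCharacter χ)
    (h : ∀ i : Fin D.rank, χ (D.simple i) = c i) : diagOf hF hA c = diagAut hF hA hχ := by
  have hs := (hA.char F c).choose_spec
  exact eq_diagAut hF hA hχ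
    (fun i t => by rw [diagOf, diagAut_rX hF hA _ (hF.simple_lt i i.2), hs.2 i, h i])
    (fun i t => by
      rw [diagOf, diagAut_rX hF hA _ (neg_lt hF (hF.simple_lt i i.2)),
        hs.1.1 _ (hF.simple_lt i i.2), hs.2 i, h i])

/-- Diagonal classes from the values on the fundamental roots. -/
noncomputable def diagClass : (Fin D.rank → Fˣ) →* Cfsg.Out ↥(D.group F) :=
  MonoidHom.mk' (fun c => mkO D F (diagOf hF hA c)) fun a b => by
    have ha := (hA.char F a).choose_spec
    have hb := (hA.char F b).choose_spec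
    obtain ⟨χ, hχ, e⟩ := exists_eq_diagAut hF hA ((IsDiagonalAut.mul hF hA
      (isDiagonalAut_diagAut hF hA ha.1) (isDiagonalAut_diagAut hF hA hb.1)).1)
    rw [← map_mul, diagOf_spec hF hA (a * b) hχ, ← e]
    · rfl
    intro i
    have h1 := DFunLike.congr_fun e (rX hF (D.simple i) (1 : F))
    rw [MulAut.mul_apply, diagAut_rX hF hA hb.1 (hF.simple_lt i i.2),
      diagAut_rX hF hA ha.1 (hF.simple_lt i i.2), diagAut_rX hF hA hχ (hF.simple_lt i i.2),
      ha.2 i, hb.2 i, mul_one, mul_one] at h1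
    have h2 := (eq_of_x_eq hF (hF.simple_lt i i.2) (mul_ne_zero (Units.ne_zero _) (Units.ne_zero _))
      (congrArg Units.val (congrArg Subtype.val h1))).2
    rw [Pi.mul_apply]
    exact Units.ext (h2.symm.trans (Units.val_mul _ _).symm)

theorem range_diagClass : (diagClass hF hA (F := F)).range = dbar hF hA := by
  refine le_antisymm ?_ ?_
  · rintro _ ⟨c, rfl⟩
    exact ⟨_, isDiagonalAut_diagAut hF hA _, rfl⟩
  · rintro _ ⟨d, hd, rfl⟩
    obtain ⟨χ, hχ, rfl⟩ := exists_eq_diagAut hF hA (show D.IsDiagonalAut d from hd)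
    exact ⟨fun i => χ (D.simple i), congrArg (mkO D F) (diagOf_spec hF hA _ hχ fun _ => rfl)⟩

theorem ker_diagClass : (diagClass hF hA (F := F)).ker = (tauHom (D := D) (F := F)).range := by
  ext a
  have hs := (hA.char F a).choose_spec
  constructor
  · intro h
    obtain ⟨x, hx⟩ := (QuotientGroup.eq_one_iff _).1 (h : mkO D F (diagOf hF hA a) = 1)
    have h1χ : D.IsRootCharacter (F := F) fun _ => 1 :=
      ⟨fun _ _ => inv_one.symm, fun _ _ _ _ _ _ => (one_mul 1).symm⟩
    have hid : diagAut hF hA h1χ * fldHom hF (1 : F ≃+* F) = 1 := by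
      rw [map_one, mul_one]
      exact (eq_diagAut hF hA h1χ (fun i t => by simp) fun i t => by simp).symm
    obtain ⟨c, hc⟩ := root_core hF hA (g := diagOf hF hA a) (rootAct_diag hF hA hs.1) h1χ
      (σ := 1) (x := x) (by rw [hid, one_mul, hx])
    refine ⟨c, funext fun i => ?_⟩
    have h2 := hc (sRoot hF i) 1
    rw [show rX hF ((sRoot hF i : Fin D.nroots) : ℕ) (1 : F) = rX hF (D.simple i) 1 from rfl,
      diagOf, diagAut_rX hF hA hs.1 (hF.simple_lt i i.2), hs.2 i, mul_one, map_one, mul_one,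
      Units.val_one, mul_one] at h2
    exact (Units.ext (eq_of_x_eq hF (hF.simple_lt i i.2) (Units.ne_zero _)
      (congrArg Units.val h2)).2).symm
  · rintro ⟨c, rfl⟩
    set x : ↥(D.group F) := ⟨torusHom c, borel_le_group hF (Subgroup.mem_sup_right (torusHom_mem hF c))⟩
    have e : diagOf hF hA (tauHom (D := D) c) = MulAut.conj x := by
      have hconj : ∀ (r : ℕ) (t : F), r < D.nroots →
          MulAut.conj x (rX hF r t) = rX hF r ((chiU c r : F) * t) := fun r t hr =>
        Subtype.ext (by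
          show torusHom c * xG hF r t * (torusHom c)⁻¹ = _
          rw [torusHom_conj hF c hr, mul_inv_cancel_right]
          rfl)
      have hs' := (hA.char F (tauHom (D := D) c)).choose_spec
      refine (eq_diagAut hF hA hs'.1 (fun i t => ?_) fun i t => ?_).symm
      · rw [hconj _ _ (hF.simple_lt i i.2), hs'.2 i]; rfl
      · rw [hconj _ _ (neg_lt hF (hF.simple_lt i i.2)), chiU_neg hF c (hF.simple_lt i i.2),
          hs'.2 i]
        rfl
    show mkO D F (diagOf hF hA (tauHom (D := D) c)) = 1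
    rw [e, mkO_conj]

theorem card_dbar [Fintype F] {N : ℕ}
    (hN : N * Nat.card ↥(D.diagonalSubgroup F) = (Fintype.card F - 1) ^ D.rank) :
    Nat.card ↥(dbar hF hA (F := F)) = N := by
  rw [← range_diagClass hF hA, ← Subgroup.index_ker, ker_diagClass hF hA, index_tauHom hF hN]

/-- Field classes meet diagonal classes trivially. -/
theorem field_eq_one {σ : F ≃+* F} (h : mkO D F (fldAut hF σ) ∈ dbar hF hA) : σ = 1 := by
  obtain ⟨d, hd, e⟩ := h
  obtain ⟨χ, hχ, rfl⟩ := exists_eq_diagAut hF hA (show D.IsDiagonalAut d from hd)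
  rw [QuotientGroup.mk'_eq_mk'] at e
  obtain ⟨_, ⟨x, rfl⟩, e⟩ := e
  obtain ⟨c, hc⟩ := root_core hF hA (rootAct_field hF hA σ) hχ (σ := 1) (x := x)
    (by rw [map_one, mul_one]; exact e.symm)
  have hi : 0 < D.rank := hF.rank_pos
  set r := sRoot hF ⟨0, hi⟩
  refine RingEquiv.ext fun t => ?_
  have h1 := hc r 1
  have h2 := hc r t
  rw [fldAut_rX, map_one σ, map_one (1 : F ≃+* F), mul_one] at h1
  rw [fldAut_rX] at h2
  have k1 := (eq_of_x_eq hF r.2 one_ne_zero (congrArg Units.val h1)).2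
  rcases eq_or_ne t 0 with rfl | ht
  · simp
  have k2 := (eq_of_x_eq hF r.2 (fun e => ht (σ.injective (e.trans (map_zero σ).symm)))
    (congrArg Units.val h2)).2
  rw [k2, ← mul_assoc, ← k1, one_mul]

theorem card_fbar [Fintype F] {p f : ℕ} [Fact p.Prime] (hf : 1 ≤ f)
    (hq : Fintype.card F = p ^ f) : Nat.card ↥(fbar hF (F := F)) = f := by
  rw [show fbar hF (F := F) = ((mkO D F).comp (fldHom hF)).range from
    MonoidHom.map_range (mkO D F) (fldHom hF)]
  have hinj : Function.Injective ((mkO D F).comp (fldHom hF (F := F))) := by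
    refine (injective_iff_map_eq_one _).2 fun σ hσ => field_eq_one hF hA ?_
    rw [MonoidHom.comp_apply, fldHom_apply] at hσ
    rw [hσ]
    exact Subgroup.one_mem _
  rw [Nat.card_congr (MonoidHom.ofInjective hinj).symm.toEquiv,
    (AutPSL.card_gal (F := F) hf hq).2]

theorem card_out [Fintype F]
    (hD : D ∈ [chevG2, chevB2, chevD4, chevF4, chevE6, chevE7, chevE8]) {p f N k : ℕ}
    [Fact p.Prime] (hf : 1 ≤ f) (hq : Fintype.card F = p ^ f)
    (hN : N * Nat.card ↥(D.diagonalSubgroup F) = (Fintype.card F - 1) ^ D.rank)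
    (hk : (dbar hF hA (F := F) ⊔ fbar hF).index = k) :
    Nat.card (Cfsg.Out ↥(D.group F)) = k * N * f := by
  have hNn := dbar_normal hF hA hD (F := F)
  set A := dbar hF hA (F := F) with hAdef
  set B := fbar hF (F := F) with hBdef
  let m : ↥A × ↥B → ↥(A ⊔ B) := fun p =>
    ⟨(p.1 : Cfsg.Out ↥(D.group F)) * p.2, Subgroup.mul_mem_sup p.1.2 p.2.2⟩
  have hm : Function.Bijective m := by
    refine ⟨fun p q e => ?_, fun z => ?_⟩
    · have e' : (p.1 : Cfsg.Out ↥(D.group F)) * p.2 = q.1 * q.2 := congrArg Subtype.val e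
      have h1 : (q.1 : Cfsg.Out ↥(D.group F))⁻¹ * p.1 = q.2 * (p.2 : Cfsg.Out ↥(D.group F))⁻¹ := by
        rw [eq_mul_inv_iff_mul_eq, mul_assoc, e', inv_mul_cancel_left]
      have h2 : (q.2 : Cfsg.Out ↥(D.group F)) * (p.2 : Cfsg.Out ↥(D.group F))⁻¹ ∈ A := by
        rw [← h1]; exact A.mul_mem (A.inv_mem q.1.2) p.1.2
      obtain ⟨_, ⟨σ, rfl⟩, hσ⟩ := B.mul_mem q.2.2 (B.inv_mem p.2.2)
      have : σ = 1 := field_eq_one hF hA (by rw [← fldHom_apply hF, hσ]; exact h2)
      subst this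
      rw [map_one, map_one, eq_comm, mul_inv_eq_one] at hσ
      rw [hσ, mul_left_inj] at e'
      exact Prod.ext (Subtype.ext e') (Subtype.ext hσ.symm)
    · obtain ⟨a, ha, b, hb, e⟩ := Subgroup.mem_sup_of_normal_left.1 z.2
      exact ⟨(⟨a, ha⟩, ⟨b, hb⟩), Subtype.ext e⟩
  have hcard : Nat.card ↥(A ⊔ B) = N * f := by
    rw [← Nat.card_congr (Equiv.ofBijective m hm), Nat.card_prod, card_dbar hF hA hN,
      card_fbar hF hA hf hq]
  rw [← Subgroup.card_mul_index (A ⊔ B), hcard, hk]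
  ring

end Cfsg.Agent.ChevAut
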