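import Cfsg.Agent.ChevAut.OutCore
import Cfsg.Agent.ChevAut.D4Class
import Cfsg.Agent.Chev.Special.Graph

/-!
The index of the diagonal and field classes in the outer automorphism group.
-/

set_option autoImplicit false
set_option maxHeartbeats 1000000
set_option maxRecDepth 100000

namespace Cfsg.Agent.ChevAut

open Cfsg Cfsg.Lie Cfsg.Agent.Chev
open scoped MatrixGroups

universe u

section general

variable {D : ChevalleyDatum} {F : Type u} [Field F] [Finite F] (hF : Facts.{u} D)
include hF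

/-- The torus relation of a graph automorphism. -/
theorem GAct.torus {g : ↥(D.group F) ≃* ↥(D.group F)} {π : Equiv.Perm (Fin D.rank)}
    (h : GAct g π) (i j : Fin D.rank) (t : Fˣ) :
    (t ^ D.cartan i (D.simple j)) ^ D.graphExp (ringChar F) j (π j) =
      (t ^ D.graphExp (ringChar F) i (π i)) ^ D.cartan (π i) (D.simple (π j)) := by
  have hneg : ∀ (a b : Fin D.rank) (x : F), (-x) ^ D.graphExp (ringChar F) a b =
      -(x ^ D.graphExp (ringChar F) a b) := fun a b x => by
    rw [ChevalleyDatum.graphExp]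
    split_ifs
    · by_cases hp : Nat.Prime (ringChar F)
      · have : Fact (Nat.Prime (ringChar F)) := ⟨hp⟩
        exact map_neg (frobenius F (ringChar F)) x
      · exact absurd (CharP.char_is_prime F (ringChar F)) hp
    · rw [pow_one, pow_one]
  set u : Fˣ := t ^ D.graphExp (ringChar F) i (π i) with hu
  have hn : ∀ a : Fˣ, g (rX hF (D.simple i) (a : F) * rX hF (D.neg (D.simple i)) (-(a : F)⁻¹) *
      rX hF (D.simple i) (a : F)) = ⟨nG hF (D.simple (π i))
        ((a ^ D.graphExp (ringChar F) i (π i) : Fˣ) : F), nG_mem_group hF _ _⟩ := fun a => by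
    rw [map_mul, map_mul, h.pos hF, h.neg hF, hneg i (π i), inv_pow, ← Units.val_pow_eq_pow_val]
    rfl
  have hT : g (rT hF i t) = rT hF (π i) u := by
    rw [show rT hF i t = (rX hF (D.simple i) (t : F) * rX hF (D.neg (D.simple i)) (-(t : F)⁻¹) *
      rX hF (D.simple i) (t : F)) * (rX hF (D.simple i) ((1 : Fˣ) : F) *
        rX hF (D.neg (D.simple i)) (-((1 : Fˣ) : F)⁻¹) * rX hF (D.simple i) ((1 : Fˣ) : F))⁻¹
      from Subtype.ext rfl, map_mul, map_inv, hn, hn, one_pow, ← hu]
    rfl
  have e := congrArg g (rT_conj hF i j t (1 : F))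
  rw [map_mul, map_mul, map_inv, hT, h.pos hF, h.pos hF, rT_conj, one_pow, mul_one, mul_one] at e
  have e1 := (eq_of_x_eq hF (hF.simple_lt _ (π j).2) (Units.ne_zero _)
    (congrArg Units.val (congrArg Subtype.val e))).2
  rw [← Units.val_pow_eq_pow_val] at e1
  exact (Units.ext e1).symm

end general

/-- The outer automorphism group has order `|Dbar| f` when every graph class is trivial. -/
theorem index_eq_one {D : ChevalleyDatum}
    (hD : D ∈ [chevG2, chevB2, chevD4, chevF4, chevE6, chevE7, chevE8]) (F : Type u) [Field F]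
    [Finite F]
    (h : ∀ (g : MulAut ↥(D.group F)) (π : Equiv.Perm (Fin D.rank)),
      D.IsDiagramSymmetry π → GAct g π → π = 1) :
    (dbar (facts_of_mem hD) (autFacts_of_mem hD) (F := F) ⊔ fbar (facts_of_mem hD)).index = 1 := by
  refine Subgroup.index_eq_one.2 (eq_top_iff.2 fun a _ => ?_)
  obtain ⟨d, g, f, hd, ⟨π, hπ, hg⟩, hf, rfl⟩ := exists_out_decomp hD a
  change GAct g π at hg
  have hg1 : g = 1 := by
    obtain rfl := h g π hπ hg
    refine aut_ext (facts_of_mem hD) (fun i t => ?_) fun i t => ?_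
    · rw [hg.pos (facts_of_mem hD)]
      simp [ChevalleyDatum.graphExp]
    · rw [hg.neg (facts_of_mem hD)]
      simp [ChevalleyDatum.graphExp]
  rw [hg1, mul_one, map_mul]
  exact Subgroup.mul_mem_sup ⟨d, hd, rfl⟩
    ⟨f, (isFieldAut_iff (facts_of_mem hD)).1 hf, rfl⟩

/-- The index is two when a moving graph class exists and there are two symmetries at most. -/
theorem index_eq_two {D : ChevalleyDatum}
    (hD : D ∈ [chevG2, chevB2, chevD4, chevF4, chevE6, chevE7, chevE8]) (F : Type u) [Field F]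
    [Finite F] (hlen : (symList D D.rank).length ≤ 2)
    {g : MulAut ↥(D.group F)} {π : Equiv.Perm (Fin D.rank)} {ρ : Equiv.Perm (Fin D.nroots)}
    (hne : π ≠ 1) (hg : GAct g π) (hr : RootAct g ρ) :
    (dbar (facts_of_mem hD) (autFacts_of_mem hD) (F := F) ⊔ fbar (facts_of_mem hD)).index = 2 := by
  obtain ⟨h1, h2⟩ := index_le (facts_of_mem hD) (autFacts_of_mem hD) hD (F := F)
  have h3 : (dbar (facts_of_mem hD) (autFacts_of_mem hD) (F := F) ⊔
      fbar (facts_of_mem hD)).index ≠ 1 := fun e => hne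
    (node_fixed_of_mem_sup (facts_of_mem hD) hD hr hg (by
      rw [Subgroup.index_eq_one.1 e]; exact Subgroup.mem_top _))
  omega

theorem perm_two : ∀ π : Equiv.Perm (Fin 2), π = 1 ∨ (π 0 = 1 ∧ π 1 = 0) := by decide

theorem eq_one_of_short {D : ChevalleyDatum} {π : Equiv.Perm (Fin D.rank)}
    (h : (symList D D.rank).length ≤ 1) (hπ : D.IsDiagramSymmetry π) : π = 1 := by
  refine permImage_injective D ?_
  have h1 := mem_symList hπ
  have h2 := mem_symList (D := D) (π := 1) fun i j _ => rfl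
  match hL : symList D D.rank, h with
  | [], _ => rw [hL] at h1; simp at h1
  | [L], _ =>
    rw [hL, List.mem_singleton] at h1 h2
    rw [h1, h2]

theorem units_pow_two {F : Type u} [Field F] {m : ℕ} (e : ∀ t : Fˣ, t ^ ringChar F = t ^ m)
    (hp : ringChar F ≠ 0) (hm : m ≠ 0) : ∀ x : F, x ^ ringChar F = x ^ m := fun x => by
  rcases eq_or_ne x 0 with rfl | hx
  · rw [zero_pow hp, zero_pow hm]
  · simpa using congrArg Units.val (e (Units.mk0 x hx))

section G2

variable {F : Type u} [Field F] [Fintype F]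

theorem g2_index_other (hq : 3 ≤ Fintype.card F) (hp : ringChar F ≠ 3) :
    (dbar (facts_of_mem (D := chevG2) (by simp)) (autFacts_of_mem (D := chevG2) (by simp)) (F := F)
      ⊔ fbar (facts_of_mem (D := chevG2) (by simp))).index = 1 := by
  refine index_eq_one (by simp) F fun g π _ hg => ?_
  rcases perm_two π with h | ⟨h0, h1⟩
  · exact h
  exfalso
  have hprime : Nat.Prime (ringChar F) := CharP.char_is_prime F _
  obtain ⟨a1, a2, l1, l0⟩ := g2_long
  have key : ∀ t : Fˣ, t ^ ringChar F = t ^ 3 := fun t => by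
    have e := hg.torus facts_chevG2 ⟨1, by decide⟩ ⟨0, by decide⟩ t
    have h1' : π (⟨1, by decide⟩ : Fin chevG2.rank) = ⟨0, by decide⟩ := h1
    have h0' : π (⟨0, by decide⟩ : Fin chevG2.rank) = ⟨1, by decide⟩ := h0
    rw [h1', h0'] at e
    simp only [a1, a2, ChevalleyDatum.graphExp, l1, l0, Bool.not_false, Bool.and_self,
      Bool.false_and, if_true, Bool.false_eq_true, if_false, pow_one, zpow_neg, zpow_one,
      inv_pow, inv_inj] at e
    rw [e]
    exact zpow_natCast t 3
  have key' := units_pow_two key hprime.ne_zero (by norm_num)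
  have hadd : ∀ a b : F, (a + b) ^ 3 = a ^ 3 + b ^ 3 := fun a b => by
    have : Fact (Nat.Prime (ringChar F)) := ⟨hprime⟩
    rw [← key', ← key', ← key']
    exact map_add (frobenius F (ringChar F)) a b
  have h6 : ((2 * 3 : ℕ) : F) = 0 := by
    have := hadd 1 1
    push_cast
    linear_combination this
  rcases (Nat.Prime.dvd_mul hprime).1 ((ringChar.spec F _).1 h6) with d | d
  · have hc := (Nat.prime_dvd_prime_iff_eq hprime Nat.prime_two).1 d
    classical
    have hall : ∀ x : F, x = 0 ∨ x = 1 := fun x => by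
      have := key' x
      rw [hc] at this
      rcases eq_or_ne x 0 with h | h
      · exact Or.inl h
      · right
        have h2 : x ^ 2 * x = x ^ 2 * 1 := by rw [mul_one, ← pow_succ]; exact this.symm
        exact mul_left_cancel₀ (pow_ne_zero _ h) h2
    have : Fintype.card F ≤ 2 := by
      rw [← Finset.card_univ]
      refine (Finset.card_le_card (t := ({0, 1} : Finset F)) fun x _ => ?_).trans Finset.card_le_two
      rcases hall x with h | h <;> simp [h]
    omega
  · exact hp ((Nat.prime_dvd_prime_iff_eq hprime Nat.prime_three).1 d)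

theorem g2_pos : ∀ r : Fin chevG2.nroots,
    half chevG2 ≤ (g2Spec.ρ r : ℕ) ↔ half chevG2 ≤ (r : ℕ) := by decide +kernel

theorem g2_nodes : chevG2.simple 0 = g2a ∧ chevG2.simple 1 = g2b ∧ chevG2.neg g2a = g2ma ∧
    chevG2.neg g2b = g2mb ∧ (∀ r, g2Spec.ρ (g2Spec.ρ r) = r) := by decide +kernel

theorem g2_index_three (hp : ringChar F = 3) :
    (dbar (facts_of_mem (D := chevG2) (by simp)) (autFacts_of_mem (D := chevG2) (by simp)) (F := F)
      ⊔ fbar (facts_of_mem (D := chevG2) (by simp))).index = 2 := by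
  have : CharP F 3 := ringChar.of_eq hp
  have : CharP F g2Spec.p := ‹CharP F 3›
  have : Fact (Nat.Prime 3) := ⟨Nat.prime_three⟩
  have hperf : ∀ x : F, ∃ y : F, y ^ 3 = x := fun x =>
    (Finite.injective_iff_surjective.1 (frobenius_inj F 3)) x
  obtain ⟨α, hα⟩ := exists_special_aut g2SpecFacts facts_chevG2 g2_simple' (F := F)
    (fun r x => by
      rcases (g2Spec_pairs r).1 with h | h <;> rw [h]
      · exact ⟨x, pow_one x⟩
      · exact hperf x)
  obtain ⟨n0, n1, m0, m1, hinv⟩ := g2_nodes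
  obtain ⟨-, -, l1, l0⟩ := g2_long
  refine index_eq_two (by simp) F g2_symList (g := α)
    (π := Equiv.swap (⟨0, by decide⟩ : Fin chevG2.rank) ⟨1, by decide⟩)
    (ρ := Function.Involutive.toPerm g2Spec.ρ hinv)
    (by decide) ?_
    ⟨g2_pos, fun r t x hx => ⟨_, hα x r t hx⟩⟩
  intro x i t
  fin_cases i
  · refine ⟨fun hx => ?_, fun hx => ?_⟩
    · have := hα x ⟨g2a, by decide⟩ t (hx.trans (congrArg (fun r => chevG2.x F r t) n0))
      rw [((g2Spec_pairs _).2.1 rfl).1, ((g2Spec_pairs _).2.1 rfl).2] at this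
      refine this.trans ?_
      show _ = chevG2.x F (chevG2.simple 1) (t ^ chevG2.graphExp (ringChar F) 0 1)
      rw [n1, ChevalleyDatum.graphExp, l1, l0, hp]; rfl
    · have := hα x ⟨g2ma, by decide⟩ t (hx.trans (congrArg (fun r => chevG2.x F r t) ((congrArg chevG2.neg n0).trans m0)))
      rw [((g2Spec_pairs _).2.2.2.1 rfl).1, ((g2Spec_pairs _).2.2.2.1 rfl).2] at this
      refine this.trans ?_
      show _ = chevG2.x F (chevG2.neg (chevG2.simple 1)) (t ^ chevG2.graphExp (ringChar F) 0 1)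
      rw [n1, m1, ChevalleyDatum.graphExp, l1, l0, hp]; rfl
  · refine ⟨fun hx => ?_, fun hx => ?_⟩
    · have := hα x ⟨g2b, by decide⟩ t (hx.trans (congrArg (fun r => chevG2.x F r t) n1))
      rw [((g2Spec_pairs _).2.2.1 rfl).1, ((g2Spec_pairs _).2.2.1 rfl).2] at this
      refine this.trans ?_
      show _ = chevG2.x F (chevG2.simple 0) (t ^ chevG2.graphExp (ringChar F) 1 0)
      rw [n0, ChevalleyDatum.graphExp, l0]; simp
    · have := hα x ⟨g2mb, by decide⟩ t (hx.trans (congrArg (fun r => chevG2.x F r t) ((congrArg chevG2.neg n1).trans m1)))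
      rw [((g2Spec_pairs _).2.2.2.2 rfl).1, ((g2Spec_pairs _).2.2.2.2 rfl).2] at this
      refine this.trans ?_
      show _ = chevG2.x F (chevG2.neg (chevG2.simple 0)) (t ^ chevG2.graphExp (ringChar F) 1 0)
      rw [n0, m0, ChevalleyDatum.graphExp, l0]; simp

end G2

section F4

variable {F : Type u} [Field F] [Fintype F]

theorem f4_symm_cases {π : Equiv.Perm (Fin chevF4.rank)} (h : chevF4.IsDiagramSymmetry π) :
    π = 1 ∨ (π (⟨1, by decide⟩ : Fin chevF4.rank) = ⟨2, by decide⟩ ∧
      π (⟨2, by decide⟩ : Fin chevF4.rank) = ⟨1, by decide⟩) := by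
  have hL : ∀ L ∈ symList chevF4 chevF4.rank,
      L = [0, 1, 2, 3] ∨ (L.getD 1 0 = 2 ∧ L.getD 2 0 = 1) := by decide +kernel
  have hone : permImage (1 : Equiv.Perm (Fin chevF4.rank)) = [0, 1, 2, 3] := by decide +kernel
  rcases hL _ (mem_symList h) with e | ⟨e1, e2⟩
  · exact Or.inl (permImage_injective _ (e.trans hone.symm))
  · exact Or.inr ⟨Fin.ext e1, Fin.ext e2⟩

theorem f4_index_other (hp : ringChar F ≠ 2) :
    (dbar (facts_of_mem (D := chevF4) (by simp)) (autFacts_of_mem (D := chevF4) (by simp)) (F := F)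
      ⊔ fbar (facts_of_mem (D := chevF4) (by simp))).index = 1 := by
  refine index_eq_one (by simp) F fun g π hπ hg => ?_
  rcases f4_symm_cases hπ with h | ⟨h1, h2⟩
  · exact h
  exfalso
  have hprime : Nat.Prime (ringChar F) := CharP.char_is_prime F _
  obtain ⟨⟨-, c21, -, -, -, c12⟩, -, l1, l2, -⟩ := f4_long
  have key : ∀ t : Fˣ, t ^ ringChar F = t ^ 2 := fun t => by
    have e := hg.torus facts_chevF4 ⟨2, by decide⟩ ⟨1, by decide⟩ t
    rw [h1, h2] at e
    simp only [c21, c12, ChevalleyDatum.graphExp, l1, l2, Bool.not_false, Bool.and_self,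
      Bool.false_and, if_true, Bool.false_eq_true, if_false, pow_one, zpow_neg, zpow_one,
      inv_pow, inv_inj] at e
    rw [e]
    exact zpow_natCast t 2
  have key' := units_pow_two key hprime.ne_zero (by norm_num)
  have : Fact (Nat.Prime (ringChar F)) := ⟨hprime⟩
  have h2 : ((2 : ℕ) : F) = 0 := by
    have : ((1 : F) + 1) ^ ringChar F = (1 : F) ^ ringChar F + 1 ^ ringChar F :=
      map_add (frobenius F (ringChar F)) 1 1
    rw [key', key', one_pow] at this
    push_cast
    linear_combination this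
  exact hp ((Nat.prime_dvd_prime_iff_eq hprime Nat.prime_two).1 ((ringChar.spec F 2).1 h2))

theorem f4_pos : (∀ r : Fin chevF4.nroots,
    half chevF4 ≤ (f4Spec.ρ r : ℕ) ↔ half chevF4 ≤ (r : ℕ)) ∧
    (∀ r, f4Spec.ρ (f4Spec.ρ r) = r) := by decide +kernel

theorem f4_rev : ∀ i : Fin chevF4.rank,
    ([(3, 2), (2, 2), (1, 1), (0, 1)] : List (ℕ × ℕ)).getD i (0, 1) =
      ((((Fin.revPerm : Equiv.Perm (Fin 4)) : Equiv.Perm (Fin chevF4.rank)) i : ℕ),
        chevF4.graphExp 2 i (((Fin.revPerm : Equiv.Perm (Fin 4)) : Equiv.Perm (Fin chevF4.rank)) i)) := by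
  decide +kernel

theorem f4_index_two (hp : ringChar F = 2) :
    (dbar (facts_of_mem (D := chevF4) (by simp)) (autFacts_of_mem (D := chevF4) (by simp)) (F := F)
      ⊔ fbar (facts_of_mem (D := chevF4) (by simp))).index = 2 := by
  have : CharP F 2 := ringChar.of_eq hp
  have : CharP F f4Spec.p := ‹CharP F 2›
  have : Fact (Nat.Prime 2) := ⟨Nat.prime_two⟩
  obtain ⟨α, hα⟩ := exists_special_aut f4SpecFacts facts_chevF4 f4_simple' (F := F)
    (fun r x => by
      rcases f4_chkGraph2.1 r with h | h <;> rw [h]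
      · exact ⟨x, pow_one x⟩
      · exact (Finite.injective_iff_surjective.1 (frobenius_inj F 2)) x)
  refine index_eq_two (by simp) F f4_symList (g := α)
    (π := (Fin.revPerm : Equiv.Perm (Fin 4)))
    (ρ := Function.Involutive.toPerm f4Spec.ρ f4_pos.2)
    (fun e => absurd (congrArg (fun π : Equiv.Perm (Fin 4) => π 0) e) (by decide)) ?_
    ⟨f4_pos.1, fun r t x hx => ⟨_, hα x r t hx⟩⟩
  intro x i t
  refine ⟨fun hx => ?_, fun hx => ?_⟩
  · obtain ⟨e1, e2⟩ := (f4_chkGraph2.2 i ⟨_, (facts_chevF4.{u}).simple_lt i i.2⟩).1 rfl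
    refine (hα x ⟨_, (facts_chevF4.{u}).simple_lt i i.2⟩ t hx).trans ?_
    rw [e1, e2, hp, f4_rev i]; rfl
  · obtain ⟨e1, e2⟩ := (f4_chkGraph2.2 i ⟨_, neg_lt facts_chevF4.{u} ((facts_chevF4.{u}).simple_lt i i.2)⟩).2 rfl
    refine (hα x ⟨_, neg_lt facts_chevF4.{u} ((facts_chevF4.{u}).simple_lt i i.2)⟩ t hx).trans ?_
    rw [e1, e2, hp, f4_rev i]; rfl

end F4

theorem e6_index {F : Type u} [Field F] [Fintype F] :
    (dbar (facts_of_mem (D := chevE6) (by simp)) (autFacts_of_mem (D := chevE6) (by simp)) (F := F)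
      ⊔ fbar (facts_of_mem (D := chevE6) (by simp))).index = 2 := by
  refine index_eq_two (by simp) F e6_symList (g := e6_flip_facts.groupAut facts_chevE6)
    (ρ := e6_flip_ρ) (π := e6_flip_π) (by decide +kernel)
    (gAct_groupAut facts_chevE6 e6_lac.2 e6_flip_facts) ⟨e6_flip_facts.pos, fun r t x hx => ?_⟩
  obtain ⟨e, -, he⟩ := e6_flip_facts.aut_x facts_chevE6 r (F := F)
  exact ⟨e * t, by rw [GraphFacts.groupAut_val, show (x : GL chevE6.Idx F) = xG facts_chevE6 r t
    from Units.ext hx, he]; rfl⟩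

end Cfsg.Agent.ChevAut
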