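import Cfsg.Prelude.Def_ChevAutomorphisms
import Cfsg.Agent.Chev.All

/-!
The symmetries of a diagram, found by a pruned search.
-/

set_option autoImplicit false
set_option maxHeartbeats 1000000
set_option maxRecDepth 100000

namespace Cfsg.Agent.ChevAut

open Cfsg.Lie

/-- The consistent extensions of a partial symmetry defined below `k`. -/
def extSymm (D : ChevalleyDatum) (k : ℕ) (L : List ℕ) : List (List ℕ) :=
  ((List.range D.rank).filter fun v => (List.range k).all fun j =>
    v != L.getD j 0 && D.bonds v (L.getD j 0) == D.bonds k j).map fun v => L ++ [v]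

/-- The partial symmetries defined below `k`. -/
def symList (D : ChevalleyDatum) : ℕ → List (List ℕ)
  | 0 => [[]]
  | k + 1 => (symList D k).flatMap (extSymm D k)

/-- The list of images of a permutation of the nodes. -/
def permImage {D : ChevalleyDatum} (π : Equiv.Perm (Fin D.rank)) : List ℕ :=
  List.ofFn fun i => (π i : ℕ)

theorem permImage_injective (D : ChevalleyDatum) :
    Function.Injective (permImage (D := D)) := fun π π' e => by
  refine Equiv.ext fun i => Fin.ext ?_
  exact congrFun (List.ofFn_injective e) i

theorem mem_symList {D : ChevalleyDatum} {π : Equiv.Perm (Fin D.rank)}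
    (h : D.IsDiagramSymmetry π) : permImage π ∈ symList D D.rank := by
  suffices H : ∀ k ≤ D.rank, (permImage π).take k ∈ symList D k by
    have := H D.rank le_rfl
    rwa [List.take_of_length_le (by simp [permImage])] at this
  intro k
  induction k with
  | zero => simp [symList]
  | succ k ih =>
    intro hk
    have hlen : k < (permImage π).length := by simp [permImage]; omega
    rw [symList, List.mem_flatMap]
    refine ⟨(permImage π).take k, ih (by omega), ?_⟩
    rw [extSymm, List.mem_map]
    refine ⟨(π ⟨k, hk⟩ : ℕ), ?_, ?_⟩
    · simp only [List.mem_filter, List.mem_range, List.all_eq_true, Bool.and_eq_true, bne_iff_ne,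
        beq_iff_eq]
      refine ⟨(π ⟨k, hk⟩).2, fun j hj => ?_⟩
      have hj' : j < D.rank := by omega
      have e : ((permImage π).take k).getD j 0 = (π ⟨j, hj'⟩ : ℕ) := by
        rw [List.getD_eq_getElem?_getD, List.getElem?_take]
        simp [permImage, hj, hj']
      rw [e]
      have hne : (⟨k, hk⟩ : Fin D.rank) ≠ ⟨j, hj'⟩ := fun e' =>
        absurd (congrArg Fin.val e') (by simp only; omega)
      exact ⟨fun e' => hne (π.injective (Fin.ext e')), h _ _ hne⟩
    · rw [List.take_add_one, List.getElem?_eq_getElem hlen]
      simp [permImage]

theorem card_symm_le (D : ChevalleyDatum) :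
    Nat.card {π : Equiv.Perm (Fin D.rank) // D.IsDiagramSymmetry π} ≤
      (symList D D.rank).length := by
  classical
  let f : {π : Equiv.Perm (Fin D.rank) // D.IsDiagramSymmetry π} →
      {L // L ∈ (symList D D.rank).toFinset} :=
    fun π => ⟨permImage π.1, List.mem_toFinset.2 (mem_symList π.2)⟩
  have hf : Function.Injective f := fun π π' e =>
    Subtype.ext (permImage_injective D (congrArg Subtype.val e))
  refine (Nat.card_le_card_of_injective f hf).trans ?_
  rw [Nat.card_eq_fintype_card, Fintype.card_coe]
  exact List.toFinset_card_le _

theorem g2_symList : (symList chevG2 chevG2.rank).length ≤ 2 := by decide +kernel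
theorem b2_symList : (symList chevB2 chevB2.rank).length ≤ 2 := by decide +kernel
theorem d4_symList : (symList chevD4 chevD4.rank).length ≤ 6 := by decide +kernel
theorem f4_symList : (symList chevF4 chevF4.rank).length ≤ 2 := by decide +kernel
theorem e6_symList : (symList chevE6 chevE6.rank).length ≤ 2 := by decide +kernel
theorem e7_symList : (symList chevE7 chevE7.rank).length ≤ 1 := by decide +kernel
theorem e8_symList : (symList chevE8 chevE8.rank).length ≤ 1 := by decide +kernel

end Cfsg.Agent.ChevAut
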