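import Cfsg.Agent.ChevAut.Group
import Cfsg.Agent.ChevAut.Symm

/-!
The outer automorphism group: diagonal, field and graph classes.
-/

set_option autoImplicit false
set_option maxHeartbeats 1000000

namespace Cfsg.Agent.ChevAut

open Cfsg Cfsg.Lie Cfsg.Agent.Chev
open scoped MatrixGroups

universe u

variable {D : ChevalleyDatum} {F : Type u} [Field F]

/-- The projection to outer automorphisms. -/
abbrev mkO (D : ChevalleyDatum) (F : Type u) [Field F] :
    MulAut ↥(D.group F) →* Cfsg.Out ↥(D.group F) :=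
  QuotientGroup.mk' (Cfsg.Inn ↥(D.group F))

variable (hF : Facts.{u} D) (hA : AutFacts.{u} D)

/-- The classes of diagonal automorphisms. -/
abbrev dbar : Subgroup (Cfsg.Out ↥(D.group F)) := (diagSub hF hA).map (mkO D F)

/-- The classes of field automorphisms. -/
noncomputable abbrev fbar : Subgroup (Cfsg.Out ↥(D.group F)) :=
  (fldHom hF (F := F)).range.map (mkO D F)

theorem mkO_conj (x : ↥(D.group F)) : mkO D F (MulAut.conj x) = 1 :=
  (QuotientGroup.eq_one_iff _).2 ⟨x, rfl⟩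

theorem exists_out_decomp [Finite F]
    (hD : D ∈ [chevG2, chevB2, chevD4, chevF4, chevE6, chevE7, chevE8])
    (a : Cfsg.Out ↥(D.group F)) : ∃ d g f : MulAut ↥(D.group F),
      D.IsDiagonalAut d ∧ D.IsGraphAut g ∧ D.IsFieldAut f ∧ a = mkO D F (d * g * f) := by
  obtain ⟨θ, rfl⟩ := QuotientGroup.mk'_surjective _ a
  have : Fintype F := Fintype.ofFinite F
  obtain ⟨p, hp⟩ := CharP.exists F
  have : Fact p.Prime := ⟨CharP.char_is_prime F p⟩
  obtain ⟨P, hP⟩ := S2326.result (F := F) p D hD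
  obtain ⟨x, θ', hx, hθ'⟩ := exists_normalised (facts_of_mem hD) p P hP θ
  obtain ⟨d, g, f, hd, hg, hf, e⟩ := exists_dgf hD θ' hθ'
  refine ⟨d, g, f, hd, hg, hf, ?_⟩
  rw [show θ = MulAut.conj x * (d * g * f : MulAut ↥(D.group F)) from MulEquiv.ext fun y => by
    rw [hx, e]; rfl, map_mul, mkO_conj, one_mul]

include hF hA in
theorem dbar_normal [Finite F]
    (hD : D ∈ [chevG2, chevB2, chevD4, chevF4, chevE6, chevE7, chevE8]) :
    (dbar hF hA (F := F)).Normal := by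
  refine ⟨?_⟩
  rintro _ ⟨d₀, hd₀, rfl⟩ a
  obtain ⟨d, g, f, hd, hg, hf, rfl⟩ := exists_out_decomp hD a
  refine ⟨(d * g * f) * d₀ * (d * g * f)⁻¹, ?_, by rw [map_mul, map_mul, map_inv]⟩
  rw [show (d * g * f) * d₀ * (d * g * f)⁻¹ = d * (g * (f * d₀ * f⁻¹) * g⁻¹) * d⁻¹ by group]
  exact Subgroup.mul_mem _ (Subgroup.mul_mem _ hd
    (graph_conj_diagonal hF hA hg (field_conj_diagonal hF hA hf hd₀)))
    (Subgroup.inv_mem _ (show d ∈ diagSub hF hA from hd))

include hF hA in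
theorem sup_normal [Finite F]
    (hD : D ∈ [chevG2, chevB2, chevD4, chevF4, chevE6, chevE7, chevE8]) :
    (dbar hF hA (F := F) ⊔ fbar hF).Normal := by
  have hN := dbar_normal hF hA hD (F := F)
  refine ⟨fun n hn a => ?_⟩
  obtain ⟨y, hy, _, ⟨f₀, hf₀, rfl⟩, rfl⟩ := Subgroup.mem_sup_of_normal_left.1 hn
  rw [show a * (y * mkO D F f₀) * a⁻¹ = (a * y * a⁻¹) * (a * mkO D F f₀ * a⁻¹) by group]
  refine Subgroup.mul_mem _ (Subgroup.mem_sup_left (hN.conj_mem y hy a)) ?_
  obtain ⟨d, g, f, hd, hg, hf, rfl⟩ := exists_out_decomp hD a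
  have hff : f * f₀ * f⁻¹ ∈ (fldHom hF (F := F)).range := Subgroup.mul_mem _ (Subgroup.mul_mem _
    ((isFieldAut_iff hF).1 hf) hf₀) (Subgroup.inv_mem _ ((isFieldAut_iff hF).1 hf))
  have hgf : g * (f * f₀ * f⁻¹) * g⁻¹ = f * f₀ * f⁻¹ := by
    rw [mul_inv_eq_iff_eq_mul]
    refine (MulEquiv.ext fun y => ?_).symm
    exact S2160.result D hD _ g ((isFieldAut_iff hF).2 hff) hg y
  rw [← map_inv, ← map_mul, ← map_mul, show (d * g * f) * f₀ * (d * g * f)⁻¹ =
    d * (g * (f * f₀ * f⁻¹) * g⁻¹) * d⁻¹ by group, hgf, map_mul, map_mul, map_inv]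
  refine Subgroup.mul_mem _ (Subgroup.mul_mem _ (Subgroup.mem_sup_left ⟨d, hd, rfl⟩)
    (Subgroup.mem_sup_right ⟨_, hff, rfl⟩)) (Subgroup.inv_mem _ (Subgroup.mem_sup_left ⟨d, hd, rfl⟩))

include hF in
theorem dbar_comm (a b : Cfsg.Out ↥(D.group F)) (ha : a ∈ dbar hF hA) (hb : b ∈ dbar hF hA) :
    a * b = b * a := by
  obtain ⟨d, hd, rfl⟩ := ha
  obtain ⟨d', hd', rfl⟩ := hb
  rw [← map_mul, ← map_mul, (IsDiagonalAut.mul hF hA hd hd').2]

theorem isCyclic_ringAut [Finite F] : IsCyclic (F ≃+* F) := by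
  have : Fintype F := Fintype.ofFinite F
  obtain ⟨p, hp⟩ := CharP.exists F
  have : Fact p.Prime := ⟨CharP.char_is_prime F p⟩
  obtain ⟨n, -, hn⟩ := FiniteField.card F p
  exact (AutPSL.card_gal (F := F) (p := p) (f := n) n.2 hn).1

include hF in
theorem fbar_cyclic [Finite F] : IsCyclic ↥(fbar hF (F := F)) := by
  have := isCyclic_ringAut (F := F)
  rw [show fbar hF (F := F) = ((mkO D F).comp (fldHom hF)).range from
    MonoidHom.map_range (mkO D F) (fldHom hF)]
  exact isCyclic_of_surjective _ ((mkO D F).comp (fldHom hF)).rangeRestrict_surjective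

/-- The class of an automorphism modulo diagonal and field ones. -/
def SameCoset (a b : Cfsg.Out ↥(D.group F)) : Prop := a⁻¹ * b ∈ dbar hF hA ⊔ fbar hF

include hF hA in
theorem index_le [Finite F]
    (hD : D ∈ [chevG2, chevB2, chevD4, chevF4, chevE6, chevE7, chevE8]) :
    (dbar hF hA (F := F) ⊔ fbar hF).index ≤ (symList D D.rank).length ∧
      (dbar hF hA (F := F) ⊔ fbar hF).index ≠ 0 := by
  classical
  have hN := sup_normal hF hA hD (F := F)
  set N := dbar hF hA (F := F) ⊔ fbar hF with hNdef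
  set S := {π : Equiv.Perm (Fin D.rank) // D.IsDiagramSymmetry π}
  let ψ : S → Cfsg.Out ↥(D.group F) ⧸ N := fun π =>
    if h : ∃ g : MulAut ↥(D.group F), GAct g π.1 then
      QuotientGroup.mk (mkO D F (Classical.choose h)) else 1
  have hsurj : Function.Surjective ψ := by
    intro q
    obtain ⟨a, rfl⟩ := QuotientGroup.mk_surjective q
    obtain ⟨d, g, f, hd, ⟨π, hπ, hg⟩, hf, rfl⟩ := exists_out_decomp hD a
    refine ⟨⟨π, hπ⟩, ?_⟩
    have hex : ∃ g : MulAut ↥(D.group F), GAct g π := ⟨g, hg⟩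
    simp only [ψ, dif_pos hex]
    rw [(Classical.choose_spec hex).eq hF (show GAct g π from hg)]
    have h1 : (QuotientGroup.mk (mkO D F d) : Cfsg.Out ↥(D.group F) ⧸ N) = 1 :=
      (QuotientGroup.eq_one_iff _).2 (Subgroup.mem_sup_left ⟨d, hd, rfl⟩)
    have h2 : (QuotientGroup.mk (mkO D F f) : Cfsg.Out ↥(D.group F) ⧸ N) = 1 :=
      (QuotientGroup.eq_one_iff _).2
        (Subgroup.mem_sup_right ⟨f, (isFieldAut_iff hF).1 hf, rfl⟩)
    rw [map_mul, map_mul, QuotientGroup.mk_mul, QuotientGroup.mk_mul, h1, h2, one_mul, mul_one]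
  have : Finite (Cfsg.Out ↥(D.group F) ⧸ N) := Finite.of_surjective ψ hsurj
  refine ⟨(Nat.card_le_card_of_surjective ψ hsurj).trans (card_symm_le D), ?_⟩
  exact Nat.card_pos.ne'

end Cfsg.Agent.ChevAut
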