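import Cfsg.Agent.ChevAut.Simple
import Cfsg.Agent.ChevAut.Data

/-!
The shape of a normalised automorphism: a permutation of the nodes, and on each fundamental root
subgroup a scalar and an automorphism of the field, linked by the torus.
-/

set_option autoImplicit false
set_option maxHeartbeats 1000000

namespace Cfsg.Agent.ChevAut

open Cfsg.Lie Cfsg.Agent.Chev
open scoped MatrixGroups

universe u

variable {D : ChevalleyDatum} {F : Type u} [Field F] (hF : Facts.{u} D)

include hF

theorem simple_inj {j k : Fin D.rank} (e : D.simple j = D.simple k) : j = k := by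
  apply Fin.ext
  by_contra hne
  have a := hF.coef_simple j j.2 j j.2
  rw [e, hF.coef_simple k k.2 j j.2, if_pos rfl, if_neg hne] at a
  exact absurd a (by norm_num)

theorem simple_ne_neg (j k : Fin D.rank) : D.simple k ≠ D.neg (D.simple j) := fun e => by
  have h1 := (neg_lt_half_iff hF (hF.simple_lt j j.2)).2 (hF.simple_pos j j.2)
  rw [← e] at h1
  exact absurd (hF.simple_pos k k.2) (not_le.2 h1)

theorem commute_of_nil {r s : ℕ} (hr : r < D.nroots) (hs : s < D.nroots) (hsr : s ≠ r)
    (hsn : s ≠ D.neg r) (hc : D.commTerms r s = []) (t v : F) :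
    Commute (xG hF r t) (xG hF s v) := by
  have := xG_comm hF hr hs hsr hsn t v
  rw [ChevalleyDatum.commWord, hc, List.map_nil, show wordG hF ([] : List (ℕ × F)) = 1 from rfl,
    mul_one] at this
  exact this.symm

theorem xG_comm_neg_simple (hA : AutFacts.{u} D) {j k : Fin D.rank} (hjk : j ≠ k) (t v : F) :
    Commute (xG hF (D.neg (D.simple j)) t) (xG hF (D.simple k) v) :=
  commute_of_nil hF (neg_lt hF (hF.simple_lt j j.2)) (hF.simple_lt k k.2) (simple_ne_neg hF j k)
    (by
      rw [neg_neg_root hF (hF.simple_lt j j.2)]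
      exact fun e => hjk (simple_inj hF e).symm)
    (hA.comm_neg j k hjk) t v

theorem cartan_eq_zero_of_commute (hA : AutFacts.{u} D) {j k : Fin D.rank} (hjk : j ≠ k) {a b : F}
    (ha : a ≠ 0) (hb : b ≠ 0) (h : Commute (xG hF (D.simple j) a) (xG hF (D.simple k) b)) :
    D.cartan j (D.simple k) = 0 := by
  have hk := hF.simple_lt k k.2
  have hn : Commute (nG hF (D.simple j) a) (xG hF (D.simple k) b) :=
    (h.mul_left (xG_comm_neg_simple hF hA hjk _ b)).mul_left h
  rw [show a = ((Units.mk0 a ha : Fˣ) : F) from rfl, nG_eq_torus_mul hF j.2] at hn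
  obtain ⟨e, -, hconj⟩ := isMon_mul hF (isMon_torus hF (coH (D.simple j) (Units.mk0 a ha)))
    (isMon_nS hF j) (sRoot hF k) (F := F)
  have e1 := hconj b
  rw [show ((sRoot hF k : Fin D.nroots) : ℕ) = D.simple k from rfl, hn.eq, mul_left_inj, one_mul,
    wPerm_val, show ((sRoot hF k : Fin D.nroots) : ℕ) = D.simple k from rfl] at e1
  have e' := (eq_of_x_eq hF hk hb (congrArg Units.val e1)).1
  have := hF.cartan_refl j j.2 _ hk j j.2
  rw [← e', hF.cartan_self j j.2] at this
  omega

/-- Fundamental root elements commute exactly when the roots are orthogonal. -/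
theorem commute_simple_iff (hA : AutFacts.{u} D) {j k : Fin D.rank} (hjk : j ≠ k) :
    Commute (xG hF (D.simple j) (1 : F)) (xG hF (D.simple k) (1 : F)) ↔
      D.cartan j (D.simple k) = 0 := by
  have hk := hF.simple_lt k k.2
  constructor
  · exact cartan_eq_zero_of_commute hF hA hjk one_ne_zero one_ne_zero
  · intro h
    exact commute_of_nil hF (hF.simple_lt j j.2) hk (fun e => hjk (simple_inj hF e).symm)
      (simple_ne_neg hF j k) (hA.comm_orth j k hjk h) 1 1

/-- Opposite fundamental root elements do not commute. -/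
theorem not_commute_opposite (i : Fin D.rank) :
    ¬ Commute (xG hF (D.neg (D.simple i)) (-(1 : F)⁻¹)) (xG hF (D.simple i) (1 : F)) := fun h => by
  have hp := hF.simple_lt i i.2
  have hn : Commute (nS hF (i : ℕ) : GL D.Idx F) (xG hF (D.simple i) 1) :=
    ((Commute.refl _).mul_left h).mul_left (Commute.refl _)
  have e := nS_conj_x hF i.2 hp (1 : F)
  rw [hn.eq, mul_left_inj, hF.refl_simple i i.2] at e
  exact neg_ne_self hF hp (eq_of_x_eq hF hp one_ne_zero (congrArg Units.val e)).1.symm

/-- The torus element of a node. -/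
noncomputable def rT (i : Fin D.rank) (t : Fˣ) : ↥(D.group F) :=
  ⟨nG hF (D.simple i) (t : F) * (nG hF (D.simple i) (1 : F))⁻¹,
    Subgroup.mul_mem _ (nG_mem_group hF _ _) (Subgroup.inv_mem _ (nG_mem_group hF _ _))⟩

theorem rT_eq (i : Fin D.rank) (t : Fˣ) :
    (rT hF i t : GL D.Idx F) = torusHom (coH (D.simple i) t) := by
  show nG hF (D.simple i) (t : F) * (nG hF (D.simple i) (1 : F))⁻¹ = _
  rw [nG_eq_torus_mul hF i.2, ← nS, mul_inv_cancel_right]

theorem rT_conj (i j : Fin D.rank) (t : Fˣ) (a : F) :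
    rT hF i t * rX hF (D.simple j) a * (rT hF i t)⁻¹ =
      rX hF (D.simple j) (((t ^ D.cartan i (D.simple j) : Fˣ) : F) * a) := by
  apply Subtype.ext
  show (rT hF i t : GL D.Idx F) * xG hF (D.simple j) a * (rT hF i t : GL D.Idx F)⁻¹ = _
  rw [rT_eq, mul_inv_eq_iff_eq_mul, torusHom_conj hF _ (hF.simple_lt j j.2), coH_simple hF i.2,
    chiU_mulSingle i.2]
  rfl

omit hF in
/-- What is known about a normalised automorphism. -/
structure Shape (θ : ↥(D.group F) ≃* ↥(D.group F)) (π : Equiv.Perm (Fin D.rank))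
    (c : Fin D.rank → Fˣ) (σ : Fin D.rank → F ≃+* F) : Prop where
  pos : ∀ (i : Fin D.rank) (t : F) (g : ↥(D.group F)),
    ((g : GL D.Idx F) : Matrix D.Idx D.Idx F) = D.x F (D.simple i) t →
      ((θ g : GL D.Idx F) : Matrix D.Idx D.Idx F) = D.x F (D.simple (π i)) (c i * σ i t)
  neg : ∀ (i : Fin D.rank) (t : F) (g : ↥(D.group F)),
    ((g : GL D.Idx F) : Matrix D.Idx D.Idx F) = D.x F (D.neg (D.simple i)) t →
      ((θ g : GL D.Idx F) : Matrix D.Idx D.Idx F) =
        D.x F (D.neg (D.simple (π i))) (((c i)⁻¹ : Fˣ) * σ i t)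
  orth : ∀ i j : Fin D.rank, i ≠ j →
    (D.cartan (π i) (D.simple (π j)) = 0 ↔ D.cartan i (D.simple j) = 0)
  torus : ∀ (i j : Fin D.rank) (t : Fˣ),
    σ j ((t : F) ^ D.cartan i (D.simple j)) = σ i (t : F) ^ D.cartan (π i) (D.simple (π j))

theorem exists_shape (hA : AutFacts.{u} D) [Fintype F] {θ : ↥(D.group F) ≃* ↥(D.group F)}
    (h : Normalised θ) : ∃ π c σ, Shape θ π c σ := by
  classical
  obtain ⟨τ', hτinj, hneg⟩ := h.exists_negPerm hF
  have hinjX : ∀ r < D.nroots, ∀ {a b : F}, rX hF r a = rX hF r b → a = b := fun r hr a b e => by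
    have e' : xG hF r (a - b) = 1 := by
      rw [sub_eq_add_neg, ← xG_mul, ← xG_inv, show xG hF r a = xG hF r b from congrArg Subtype.val e,
        mul_inv_cancel]
    exact sub_eq_zero.1 ((xG_eq_one_iff hF hr).1 e')
  have hone : ∀ r, rX hF r (0 : F) = 1 := fun r => Subtype.ext (xG_zero hF r)
  -- the same permutation for both signs
  have hpos : ∀ (i : Fin D.rank) (t : F), ∃ u, θ (rX hF (D.simple i) t) =
      rX hF (D.simple (τ' i)) u := by
    intro i
    obtain ⟨k, hk⟩ := h.exists_posPerm hF i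
    suffices hki : k = τ' i by rw [← hki]; exact hk
    by_contra hne
    refine not_commute_opposite hF i (F := F) ?_
    obtain ⟨a, ha⟩ := hk 1
    obtain ⟨b, hb⟩ := hneg i (-(1 : F)⁻¹)
    have hc : Commute (rX hF (D.neg (D.simple (τ' i))) b) (rX hF (D.simple k) a) :=
      Subtype.ext (xG_comm_neg_simple hF hA (Ne.symm hne) b a).eq
    rw [← ha, ← hb] at hc
    have := hc.map θ.symm
    rw [MulEquiv.symm_apply_apply, MulEquiv.symm_apply_apply] at this
    exact congrArg Subtype.val this.eq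
  choose f hf using hpos
  choose g hg using hneg
  set π : Equiv.Perm (Fin D.rank) := Equiv.ofBijective τ'
    (Finite.injective_iff_bijective.1 hτinj) with hπ
  have hfadd : ∀ i a b, f i (a + b) = f i a + f i b := fun i a b => hinjX _
    (hF.simple_lt _ (τ' i).2) (by
      rw [← hf, show rX hF (D.simple i) (a + b) = rX hF (D.simple i) a * rX hF (D.simple i) b from
        Subtype.ext (xG_mul hF _ a b).symm, map_mul, hf, hf]
      exact Subtype.ext (xG_mul hF _ _ _))
  have hgadd : ∀ i a b, g i (a + b) = g i a + g i b := fun i a b => hinjX _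
    (neg_lt hF (hF.simple_lt _ (τ' i).2)) (by
      rw [← hg, show rX hF (D.neg (D.simple i)) (a + b) = rX hF (D.neg (D.simple i)) a *
        rX hF (D.neg (D.simple i)) b from Subtype.ext (xG_mul hF _ a b).symm, map_mul, hg, hg]
      exact Subtype.ext (xG_mul hF _ _ _))
  have hfbij : ∀ i, Function.Bijective (f i) := fun i =>
    Finite.injective_iff_bijective.1 fun a b e => hinjX _ (hF.simple_lt i i.2)
      (θ.injective (by rw [hf, hf, e]))
  have hf0 : ∀ i t, t ≠ 0 → f i t ≠ 0 := fun i t ht e => ht ((hfbij i).1 (e.trans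
    (AddMonoidHom.map_zero (AddMonoidHom.mk' (f i) (hfadd i))).symm))
  -- the relation between the two signs
  have hrel : ∀ i t, t ≠ 0 → g i (-t⁻¹) = -(f i t)⁻¹ := by
    intro i t ht
    refine rank_one_unique hF (τ' i) (hf0 i t ht) (hf0 i 1 one_ne_zero) ?_
    set M : ↥(D.group F) := rX hF (D.simple i) t * rX hF (D.neg (D.simple i)) (-t⁻¹) *
      rX hF (D.simple i) t with hM
    have hmem : M * rX hF (D.simple i) 1 * M⁻¹ ∈ vG D F := by
      show (M : GL D.Idx F) * xG hF (D.simple i) (1 : F) * (M : GL D.Idx F)⁻¹ ∈ D.negUnipotent F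
      rw [show (M : GL D.Idx F) = nG hF (D.simple i) t from rfl,
        show t = ((Units.mk0 t ht : Fˣ) : F) from rfl, nG_eq_torus_mul hF i.2]
      obtain ⟨e, -, hconj⟩ := isMon_mul hF (isMon_torus hF (coH (D.simple i) (Units.mk0 t ht)))
        (isMon_nS hF i) (sRoot hF i) (F := F)
      have := hconj (1 : F)
      rw [← mul_inv_eq_iff_eq_mul, show ((sRoot hF i : Fin D.nroots) : ℕ) = D.simple i from rfl]
        at this
      rw [this, one_mul, wPerm_sRoot]
      exact mem_negUnipotent_of hF (neg_lt hF (hF.simple_lt i i.2))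
        ((neg_lt_half_iff hF (hF.simple_lt i i.2)).2 (hF.simple_pos i i.2)) _
    have h1 := (h.mem_v _).2 hmem
    rw [map_mul, map_mul, map_inv, hM, map_mul, map_mul, hf, hg, hf] at h1
    exact h1
  have hσ : ∀ i, ∃ σ : F ≃+* F, ∀ t, f i t = f i 1 * σ t ∧ g i t = (f i 1)⁻¹ * σ t := by
    intro i
    have hc := hf0 i 1 one_ne_zero
    obtain ⟨σ, hσ⟩ := exists_fieldAut (F := F) (f := fun t => (f i 1)⁻¹ * f i t)
      (g := fun t => f i 1 * g i t)
      ((mulLeft_bijective₀ _ (inv_ne_zero hc)).comp (hfbij i))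
      (fun a b => by rw [hfadd, mul_add]) (fun a b => by rw [hgadd, mul_add])
      (inv_mul_cancel₀ hc) (fun t ht => by
        rw [hrel i t ht, mul_inv, inv_inv, mul_neg])
    exact ⟨σ, fun t => ⟨by rw [← (hσ t).1, mul_inv_cancel_left₀ hc],
      by rw [← (hσ t).2, inv_mul_cancel_left₀ hc]⟩⟩
  choose σ hσ using hσ
  set c : Fin D.rank → Fˣ := fun i => Units.mk0 (f i 1) (hf0 i 1 one_ne_zero) with hc
  have hF' : ∀ (i : Fin D.rank) (t : F), θ (rX hF (D.simple i) t) = rX hF (D.simple (π i)) (c i * σ i t) := fun i t => by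
    rw [hf, (hσ i t).1]; rfl
  have hG' : ∀ (i : Fin D.rank) (t : F), θ (rX hF (D.neg (D.simple i)) t) =
      rX hF (D.neg (D.simple (π i))) (((c i)⁻¹ : Fˣ) * σ i t) := fun i t => by
    rw [hg, (hσ i t).2, Units.val_inv_eq_inv_val]; rfl
  refine ⟨π, c, σ, ⟨?_, ?_, ?_, ?_⟩⟩
  · intro i t x hx
    rw [show x = rX hF (D.simple i) t from Subtype.ext (Units.ext hx), hF']
    rfl
  · intro i t x hx
    rw [show x = rX hF (D.neg (D.simple i)) t from Subtype.ext (Units.ext hx), hG']
    rfl
  · intro i j hij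
    have hij' : π i ≠ π j := fun e => hij (π.injective e)
    rw [← commute_simple_iff hF hA hij' (F := F), ← commute_simple_iff hF hA hij (F := F)]
    obtain ⟨a, ha⟩ := (hfbij i).2 1
    obtain ⟨b, hb⟩ := (hfbij j).2 1
    constructor
    · intro hcm
      have h1 : Commute (θ (rX hF (D.simple i) a)) (θ (rX hF (D.simple j) b)) := by
        rw [hf, hf, ha, hb]; exact Subtype.ext hcm.eq
      have h2 := h1.map θ.symm
      rw [MulEquiv.symm_apply_apply, MulEquiv.symm_apply_apply] at h2
      rw [commute_simple_iff hF hA hij]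
      have ha0 : a ≠ 0 := fun e => one_ne_zero (by
        rw [← ha, e]; exact AddMonoidHom.map_zero (AddMonoidHom.mk' (f i) (hfadd i)) : (1 : F) = 0)
      have hb0 : b ≠ 0 := fun e => one_ne_zero (by
        rw [← hb, e]; exact AddMonoidHom.map_zero (AddMonoidHom.mk' (f j) (hfadd j)) : (1 : F) = 0)
      exact cartan_eq_zero_of_commute hF hA hij ha0 hb0 (congrArg Subtype.val h2.eq)
    · intro hcm
      have h1 : Commute (rX hF (D.simple i) (1 : F)) (rX hF (D.simple j) (1 : F)) :=
        Subtype.ext hcm.eq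
      have h2 := h1.map θ
      rw [hf, hf] at h2
      rw [commute_simple_iff hF hA hij']
      exact cartan_eq_zero_of_commute hF hA hij' (hf0 i 1 one_ne_zero) (hf0 j 1 one_ne_zero)
        (congrArg Subtype.val h2.eq)
  · intro i j t
    set s : Fˣ := Units.map (σ i).toMonoidHom t with hs
    have hn : ∀ u : Fˣ, θ (rX hF (D.simple i) (u : F) * rX hF (D.neg (D.simple i)) (-(u : F)⁻¹) *
        rX hF (D.simple i) (u : F)) = ⟨nG hF (D.simple (π i)) ((c i * Units.map (σ i).toMonoidHom u :
          Fˣ) : F), nG_mem_group hF _ _⟩ := fun u => by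
      rw [map_mul, map_mul, hF', hG']
      apply Subtype.ext
      show xG hF _ _ * xG hF _ _ * xG hF _ _ = nG hF _ _
      simp [nG, mul_comm, mul_inv]
    have hT : θ (rT hF i t) = rT hF (π i) s := by
      rw [show rT hF i t = (rX hF (D.simple i) (t : F) * rX hF (D.neg (D.simple i)) (-(t : F)⁻¹) *
        rX hF (D.simple i) (t : F)) * (rX hF (D.simple i) ((1 : Fˣ) : F) *
          rX hF (D.neg (D.simple i)) (-((1 : Fˣ) : F)⁻¹) * rX hF (D.simple i) ((1 : Fˣ) : F))⁻¹
        from Subtype.ext rfl, map_mul, map_inv, hn, hn]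
      apply Subtype.ext
      show nG hF _ _ * (nG hF _ _)⁻¹ = nG hF _ _ * (nG hF (D.simple (π i)) ((1 : Fˣ) : F))⁻¹
      rw [nG_eq_torus_mul hF (π i).2, nG_eq_torus_mul hF (π i).2, nG_eq_torus_mul hF (π i).2,
        nG_eq_torus_mul hF (π i).2, map_one, mul_one, map_mul, map_mul, map_one, map_one, one_mul,
        ← hs]
      simp only [mul_inv_rev, mul_assoc, mul_inv_cancel_left, mul_inv_cancel, mul_one]
      rw [← map_inv, ← map_mul, ← map_mul, mul_inv_cancel_comm_assoc]
    have e := congrArg θ (rT_conj hF i j t (1 : F))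
    rw [map_mul, map_mul, map_inv, hT, hF', hF', rT_conj, map_one, mul_one, mul_one] at e
    have e' := mul_right_cancel₀ (Units.ne_zero (c j)) ((hinjX _ (hF.simple_lt _ (π j).2) e).trans
      (mul_comm _ _))
    rw [Units.val_zpow_eq_zpow_val] at e'
    simp only [Units.val_zpow_eq_zpow_val] at e'
    exact e'.symm

end Cfsg.Agent.ChevAut
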